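import Groth.Agent.Lib.PicBdd.Strata
import Groth.Agent.Lib.BddFam.Regular
import Groth.Agent.Lib.Nakai.UnifAbs
import Groth.Agent.Lib.Ample.Pow
import Mathlib.SetTheory.Cardinal.NatCard

/-!
# Numerically trivial modules on a projective variety: bounded, hence τ-equivalent to zero
-/

set_option autoImplicit false
set_option linter.style.haveILetI false
universe u

open CategoryTheory CategoryTheory.Limits AlgebraicGeometry TopologicalSpace

namespace Groth.Agent.Lib.PicBdd.Core

open Groth.Agent Groth.Agent.Lib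
open Groth.Agent.Lib.Nakai.UnifAbs (NTA)
open Groth.Agent.Lib.TensorMod.Basic (comm assoc tensorIso leftUnit rightUnit)
open Groth.Agent.Lib.TensorMod.Invertible (isInvertible_tensorPow isInvertible_tensorMod
  isInvertible_dual tensorDualIso)
open Groth.Agent.Lib.TensorMod.Pullback (pullbackTensorIso)

variable (k : Type u) [Field k] [IsAlgClosed k] {X : Scheme.{u}} [X.Over (Spec (CommRingCat.of k))]
  [IsProper (X ↘ Spec (CommRingCat.of k))]

/-- The numerically trivial modules form a bounded family. -/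
theorem isBounded_nta {H : X.Modules} (hH : CohB1.IsAmple H) :
    Pic13.IsBounded k X (fun L => NTA k L) := by
  haveI := Curves.GlobalSections.isNoetherian_of_proper k X
  obtain ⟨N, r, j, hN, hj, hjs, ⟨eN⟩⟩ := DepthTwist.Embed.exists_embedding (k := k) hH
  haveI := hj
  have hO1 : CohB1.IsAmple (Nakai.UnifVan.twX j 1) :=
    Ample.Pow.isAmple_of_iso eN ((Ample.Pow.isAmple_tensorPow_iff hH.1 hN).mp hH)
  have hdim := Nakai.UnifVan.dim_le j hjs
  have hpd : ∀ x : X, Nakai.Main.pd k x < r + 1 + 1 := fun x => by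
    have h := ((Devissage.Dim.dim_closure_le isClosed_univ (Set.mem_univ x)).trans
      (Homeomorph.Set.univ X).isHomeomorph.topologicalKrullDim_eq.le).trans hdim
    rw [Nakai.Cut.dim_closure (k := k) x] at h
    have h' : Nakai.Main.pd k x ≤ r + 1 := by exact_mod_cast h
    omega
  obtain ⟨⟨m, hm⟩, -⟩ := Nakai.UnifVan.main j hjs hO1 (r + 1 + 1) (Coh.structureModule X)
    (Ample.GG.isCoh_of_isInvertible (PicLoc.isInvertible_structureModule X)) fun x _ => hpd x
  haveI : IsProper (CohB1.ProjSpace r k ↘ Spec (CommRingCat.of k)) :=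
    ProjSpace.Basic.isProper_toSpec r k
  refine BddFam.Presented.mono k (fun L hL => ?_) (BddFam.Regular.isBounded_pullback k j hjs
    (BddFam.Regular.isBounded_reg (n := r) (k := k) m
      (FGA.eulerCharLE k X (Nakai.UnifVan.twX j m) (r + 1)).natAbs))
  have hLc := Ample.GG.isCoh_of_isInvertible hL.1
  have hreg : Pic13.IsMRegular k j L m := fun q hq => by
    have h : Subsingleton (Coh.HH X
        (CohB1.tensorMod (CohB1.tensorMod L (Coh.structureModule X)) (Nakai.UnifVan.twX j (m - q))) q) :=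
      hm L (hL.2 (r + 1) hdim) q hq
    exact @Function.Injective.subsingleton _ _ _
      (Curves.LES.isoK k (tensorIso (rightUnit L).symm (Iso.refl _)) q).injective h
  let G := (Coh.push j).obj L
  have hG : Coh.IsCoh G := Cyc.Dev.SchemeEquiv.isCoh_push j hLc
  have hRG : ProjKoszul.Regularity.Reg G m := fun q hq => by
    obtain ⟨E⟩ := Nakai.UnifVan.nonempty_hh j hjs hLc (m - q) q
    have h : Subsingleton (Coh.HH X (CohB1.tensorMod L (Nakai.UnifVan.twX j (m - q))) q) := hreg q hq
    exact E.injective.subsingleton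
  haveI := Cyc.Dev.SchemeCase.isIso_counit j L
  refine ⟨G, ⟨hG, hRG, ?_⟩,
    ⟨asIso ((Scheme.Modules.pullbackPushforwardAdjunction j).counit.app L)⟩⟩
  obtain ⟨E⟩ := Nakai.UnifVan.nonempty_hh j hjs hLc m 0
  change Curves.Euler.hdim k _ (CohB1.tensorMod G (ProjCoh.Coherent.tw r k m)) 0 ≤ _
  rw [Curves.Euler.hdim, E.finrank_eq]
  have h := Nakai.UnifAbs.chi_eq k hH
    (Ample.GG.isCoh_of_isInvertible (Nakai.UnifVan.isInvertible_twX j m)) hL hdim
  conv_lhs at h => unfold FGA.eulerCharLE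
  rw [Finset.sum_eq_single 0 (fun q _ hq => ?_) (by simp)] at h
  · simp only [pow_zero, one_mul] at h
    omega
  · haveI := Nakai.UnifVan.subsingleton_of_reg j hjs hLc hreg (q := q) (by omega) (j := m) (by omega)
    rw [Module.finrank_zero_of_subsingleton]
    simp

/-- The invertible members of a bounded family lie in finitely many pieces. -/
theorem exists_covers {P : X.Modules → Prop} (hb : Pic13.IsBounded k X P) :
    ∃ ps : List (Strata.Piece k X), ∀ L, P L → PicF.IsInvertible L → Strata.Covers k X ps L := by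
  obtain ⟨T, q, hq₁, hq₂, F, hF, hP⟩ := hb
  haveI := hq₁
  haveI := hq₂
  obtain ⟨ps, hps⟩ := Strata.exists_pieces q F hF
  refine ⟨ps, fun L hL hinv => ?_⟩
  obtain ⟨t, ht, ⟨e⟩⟩ := hP L hL
  exact Strata.Covers.of_iso e (hps t ht (TensorMod.Invertible.isInvertible_of_iso e.symm hinv))

omit [IsAlgClosed k] [IsProper (X ↘ Spec (CommRingCat.of k))] in
/-- Two members of one piece differ by something algebraically trivial. -/
theorem isAlgEquivZero_of_piece (p : Strata.Piece k X) (t t₀ : Spec (CommRingCat.of k) ⟶ p.T)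
    (ht : t ≫ p.q = 𝟙 _) (ht₀ : t₀ ≫ p.q = 𝟙 _) {A B C : X.Modules} (hB : PicF.IsInvertible B)
    (eA : Pic13.fibreMod k X p.q t ht p.M ≅ A) (eB : Pic13.fibreMod k X p.q t₀ ht₀ p.M ≅ B)
    (eC : A ≅ CohB1.tensorMod C B) : Pic13.IsAlgEquivZero k X C := by
  haveI := p.integral
  let B' := TensorMod.Dual.dual B
  let P := (Scheme.Modules.pullback (pullback.fst (X ↘ Spec (CommRingCat.of k)) p.q)).obj B'
  have eP : ∀ (s : Spec (CommRingCat.of k) ⟶ p.T) (hs : s ≫ p.q = 𝟙 _),
      Nonempty (Pic13.fibreMod k X p.q s hs (CohB1.tensorMod p.M P) ≅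
        CohB1.tensorMod (Pic13.fibreMod k X p.q s hs p.M) B') := fun s hs =>
    ⟨pullbackTensorIso (Pic13.sliceAt k X p.q s hs) _ _ ≪≫ tensorIso (Iso.refl _)
      ((Scheme.Modules.pullbackComp _ _).app B' ≪≫
        (Scheme.Modules.pullbackCongr (Strata.sliceAt_fst p.q s hs)).app B' ≪≫
        (Scheme.Modules.pullbackId X).app B')⟩
  obtain ⟨e⟩ := eP t ht
  obtain ⟨e₀⟩ := eP t₀ ht₀
  refine ⟨p.T, p.q, inferInstance, p.lft, p.qc, CohB1.tensorMod p.M P,
    isInvertible_tensorMod p.inv (PicLoc.isInvertible_pullback _ (isInvertible_dual hB)),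
    t, t₀, ht, ht₀, ⟨?_⟩, ⟨?_⟩⟩
  · exact e ≪≫ tensorIso (eA ≪≫ eC) (Iso.refl _) ≪≫ assoc _ _ _ ≪≫
      tensorIso (Iso.refl C) (tensorDualIso hB) ≪≫ rightUnit C
  · exact e₀ ≪≫ tensorIso eB (Iso.refl _) ≪≫ tensorDualIso hB

omit [IsAlgClosed k] [IsProper (X ↘ Spec (CommRingCat.of k))] in
/-- If all powers lie in finitely many pieces, some power is algebraically trivial. -/
theorem isTauEquivZero_of_covers (ps : List (Strata.Piece k X)) {L : X.Modules}
    (hL : PicF.IsInvertible L) (h : ∀ a : ℕ, Strata.Covers k X ps (CohB1.tensorPow L a)) :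
    Pic13.IsTauEquivZero k X L := by
  classical
  choose p hp t ht e using h
  obtain ⟨a, b, hab, heq⟩ :
      ∃ a b : ℕ, a < b ∧ (⟨p a, hp a⟩ : {x // x ∈ ps}) = ⟨p b, hp b⟩ := by
    have : Finite {x // x ∈ ps} := (List.finite_toSet ps).to_subtype
    obtain ⟨a, b, hne, he⟩ :=
      Finite.exists_ne_map_eq_of_infinite fun a : ℕ => (⟨p a, hp a⟩ : {x // x ∈ ps})
    rcases Nat.lt_or_lt_of_ne hne with h | h
    · exact ⟨a, b, h, he⟩
    · exact ⟨b, a, h, he.symm⟩
  have hpe : p a = p b := congrArg Subtype.val heq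
  have key : ∀ (P : Strata.Piece k X) (_ : p b = P), ∃ (s : Spec (CommRingCat.of k) ⟶ P.T)
      (hs : s ≫ P.q = 𝟙 _), Nonempty (Pic13.fibreMod k X P.q s hs P.M ≅ CohB1.tensorPow L b) := by
    rintro P rfl
    exact ⟨t b, ht b, e b⟩
  obtain ⟨s, hs, ⟨es⟩⟩ := key (p a) hpe.symm
  obtain ⟨ea⟩ := e a
  refine ⟨b - a, by omega, isAlgEquivZero_of_piece k (p a) s (t a) hs (ht a)
    (isInvertible_tensorPow hL a) es ea ?_⟩
  exact Ample.Pow.powCongr L (show b = (b - a) + a by omega) ≪≫ Ample.Pow.powAdd L (b - a) a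

/-- On a projective scheme numerically trivial modules are τ-equivalent to zero. -/
theorem isTauEquivZero_of_nta {H : X.Modules} (hH : CohB1.IsAmple H) {L : X.Modules}
    (hL : NTA k L) : Pic13.IsTauEquivZero k X L := by
  obtain ⟨ps, hps⟩ := exists_covers k (isBounded_nta k hH)
  exact isTauEquivZero_of_covers k ps hL.1 fun a =>
    hps _ ⟨isInvertible_tensorPow hL.1 a, fun d hd => Nakai.NTBound.nt_pow hd (hL.2 d hd) a⟩
      (isInvertible_tensorPow hL.1 a)

end Groth.Agent.Lib.PicBdd.Core
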