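import Groth.Agent.Lib.PicBdd.FiniteField
import Groth.Agent.Lib.PicBdd.Strata
import Groth.Agent.Lib.Nakai.NumBaseChange
import Groth.Agent.Lib.Lim.Basic
import Groth.Agent.Lib.AlgSpLimit.FieldLim
import Groth.Agent.Lib.DescAlg.LocFreeDescent
import Groth.Agent.Lib.Exchange.NearFibre
import Groth.Agent.H69.FibreLoci.FreeFibreSet
import Groth.Agent.S0086
import Groth.Agent.S0591
import Groth.Agent.S4788
import Groth.Agent.S1555
import Mathlib.Algebra.CharP.Subring
import Mathlib.RingTheory.Algebraic.Defs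

/-!
# Numerically trivial modules on a projective scheme over an algebraic extension of `F_p` are torsion
-/

set_option autoImplicit false
set_option linter.style.haveILetI false
universe u

open CategoryTheory CategoryTheory.Limits AlgebraicGeometry Opposite

namespace Groth.Agent.Lib.PicBdd.AlgFp

open Groth.Agent Groth.Agent.Lib Groth.Agent.H69.FibreLoci.FreeFibre
open Groth.Agent.Lib.AlgSpLimit (FinSub subFunctor subCocone nonempty_isColimit_subCocone)
open Groth.Agent.Lib.Lim.Basic (bcDiagram bcCone isLimitBcCone isPullback_bcCone_π)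

/-- Torsion from a model over a finite field. -/
theorem torsion_of_model (K k : Type u) [Field K] [Finite K] [Field k] [Algebra K k]
    {X₀ X : Scheme.{u}} [X₀.Over (Spec (CommRingCat.of K))] [X.Over (Spec (CommRingCat.of k))]
    [IsProper (X ↘ Spec (CommRingCat.of k))] {g : X ⟶ X₀}
    (hP : IsPullback g (X ↘ Spec (CommRingCat.of k)) (X₀ ↘ Spec (CommRingCat.of K))
      (Spec.map (CommRingCat.ofHom (algebraMap K k))))
    {H : X.Modules} (hH : CohB1.IsAmple H) {L : X.Modules} (hL : PicF.IsInvertible L)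
    (hnum : Pic13.IsNumEquivZero k X L) {L₀ : X₀.Modules} (hq₀ : Coh.IsQCoh L₀) (hf₀ : CohB1.IsFP L₀)
    (e : (Scheme.Modules.pullback g).obj L₀ ≅ L) :
    ∃ d : ℕ, 0 < d ∧ Nonempty (CohB1.tensorPow L d ≅ Coh.structureModule X) := by
  have hsfq : Surjective (Spec.map (CommRingCat.ofHom (algebraMap K k))) ∧
      Flat (Spec.map (CommRingCat.ofHom (algebraMap K k))) := by
    refine ⟨⟨fun _ => ⟨IsLocalRing.closedPoint k, Subsingleton.elim (α := PrimeSpectrum K) _ _⟩⟩, ?_⟩
    exact (HasRingHomProperty.Spec_iff (P := @Flat)).2 (RingHom.flat_algebraMap_iff.2 inferInstance)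
  haveI := hsfq.1
  haveI := hsfq.2
  haveI : IsProper (X₀ ↘ Spec (CommRingCat.of K)) := by
    haveI := Groth.Agent.S0086.result.{u}
    exact MorphismProperty.of_isPullback_of_descendsAlong (P := @IsProper)
      (Q := (@Surjective ⊓ @Flat ⊓ @QuasiCompact : MorphismProperty Scheme.{u})) hP.flip
      ⟨⟨hsfq.1, hsfq.2⟩, inferInstance⟩ inferInstance
  haveI : Surjective g := MorphismProperty.of_isPullback hP.flip hsfq.1
  haveI : Flat g := MorphismProperty.of_isPullback hP.flip hsfq.2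
  haveI : QuasiCompact g := MorphismProperty.of_isPullback hP.flip inferInstance
  obtain ⟨H₀, hH₀⟩ := Groth.Agent.S1555.result K X₀ k
    ((Scheme.Modules.pullback hP.isoPullback.inv).obj H) (by
      exact Ample.Pullback.isAmple_pullback _ (Ample.Pullback.isQuasiAffine_of_isAffineHom _) hH)
  haveI := Curves.GlobalSections.isNoetherian_of_proper K X₀
  haveI := hq₀
  haveI : L₀.IsQuasicoherent := hq₀
  have hLF : FlatMod.IsFinLocFree L₀ := DescAlg.LocFreeDescent.isFinLocFree_of_pullback g L₀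
    (TensorMod.LocFree.of_rank (TensorMod.LocFree.of_isInvertible
      (TensorMod.Invertible.isInvertible_of_iso e.symm hL)))
  have hL₀ : PicF.IsInvertible L₀ := by
    refine TensorMod.LocFree.isInvertible_of_rank_one
      ((H69.FibreLoci.FreeFibreSet.isFinLocFreeOfRank_iff hf₀ 1).2 fun y => ?_)
    obtain ⟨x, rfl⟩ := g.surjective y
    haveI := Curves.GlobalSections.isNoetherian_of_proper k X
    exact (ok_baseChange_iff (some 1) (𝟙 X₀) L₀ hf₀
      (_root_.ZarCoh.Exchange.NearFibre.isFlatOver_of_isFinLocFree _ hLF)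
      (show IsPullback g (𝟙 X) (𝟙 X₀) g from IsPullback.of_vert_isIso ⟨by simp⟩) x).1
      (OK.of_iso e.symm (Strata.ok_of_isInvertible hL x))
  have hnum' : Pic13.IsNumEquivZero k X ((Scheme.Modules.pullback g).obj L₀) := by
    haveI := Curves.GlobalSections.isNoetherian_of_proper k X
    exact fun Y i hi hY hd => by
      haveI : IsProper (i ≫ (X ↘ Spec (CommRingCat.of k))) := inferInstance
      refine Eq.trans ?_ (hnum Y i hY hd)
      letI : Y.Over (Spec (CommRingCat.of k)) := ⟨i ≫ (X ↘ Spec (CommRingCat.of k))⟩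
      exact congrArg (fun z : ℤ => z - FGA.eulerCharLE k Y (Coh.structureModule Y) 1)
        (Snapper.Chi.eulerCharLE_of_iso (k := k) ((Scheme.Modules.pullback i).mapIso e) 1)
  obtain ⟨d, hd, ⟨t⟩⟩ := FiniteField.exists_pow_trivial K hH₀ (Nakai.UnifAbs.nta_of_num K hL₀
    (Nakai.NumBaseChange.num_of_pullback k hP hL₀ hnum'))
  exact ⟨d, hd, ⟨(Ample.Pow.powIso e d).symm ≪≫ (Ample.Pow.pullbackPow g L₀ d).symm ≪≫
    (Scheme.Modules.pullback g).mapIso t ≪≫ PicLoc.pullbackStructureIso g⟩⟩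

variable (p : ℕ) [Fact (Nat.Prime p)] (k : Type u) [Field k] [CharP k p]

/-- The prime field. -/
noncomputable abbrev Fp : Subfield k := (ZMod.castHom (dvd_refl p) k).fieldRange

instance finite_Fp : Finite (Fp p k) :=
  Finite.of_surjective (ZMod.castHom (dvd_refl p) k).rangeRestrictField
    (RingHom.rangeRestrictField_bijective _).2

theorem isAlgebraic_Fp (halg : ∀ x : k, ∃ n : ℕ, 0 < n ∧ x ^ (p ^ n) = x) :
    Algebra.IsAlgebraic (Fp p k) k := by
  refine ⟨fun x => ?_⟩
  obtain ⟨n, hn, hx⟩ := halg x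
  refine ⟨Polynomial.X ^ (p ^ n) - Polynomial.X, ?_, ?_⟩
  · refine Polynomial.ne_zero_of_natDegree_gt (n := 0) ?_
    rw [FiniteField.X_pow_card_pow_sub_X_natDegree_eq _ hn.ne' (Fact.out : p.Prime).one_lt]
    exact Nat.pow_pos (Fact.out : p.Prime).pos
  · simp [hx]

variable {X : Scheme.{u}} [X.Over (Spec (CommRingCat.of k))]
  [IsProper (X ↘ Spec (CommRingCat.of k))]

/-- Projective case. -/
theorem exists_pow_trivial (halg : ∀ x : k, ∃ n : ℕ, 0 < n ∧ x ^ (p ^ n) = x) {H : X.Modules}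
    (hH : CohB1.IsAmple H) {L : X.Modules} (hL : PicF.IsInvertible L)
    (hnum : Pic13.IsNumEquivZero k X L) :
    ∃ d : ℕ, 0 < d ∧ Nonempty (CohB1.tensorPow L d ≅ Coh.structureModule X) := by
  haveI := isAlgebraic_Fp p k halg
  haveI := Curves.GlobalSections.isNoetherian_of_proper k X
  let F := Fp p k
  haveI : IsFiltered (FinSub F k) := isFiltered_of_directed_le_nonempty _
  let D : (FinSub F k)ᵒᵖ ⥤ Scheme.{u} := (subFunctor F k).op ⋙ Scheme.Spec
  let c : Cone D := Scheme.Spec.mapCone (subCocone F k).op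
  have hc : IsLimit c := isLimitOfPreserves Scheme.Spec (nonempty_isColimit_subCocone F k).some.op
  haveI hDa : ∀ (i j : (FinSub F k)ᵒᵖ) (f : i ⟶ j), IsAffineHom (D.map f) := fun i j f =>
    inferInstanceAs (IsAffineHom (Spec.map _))
  haveI hDa' : ∀ {i j : (FinSub F k)ᵒᵖ} (f : i ⟶ j), IsAffineHom (D.map f) := fun f => hDa _ _ f
  haveI : ∀ i, IsAffine (D.obj i) := fun i =>
    inferInstanceAs (IsAffine (Spec (CommRingCat.of i.unop.1)))
  let f : X ⟶ c.pt := X ↘ Spec (CommRingCat.of k)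
  haveI : IsProper f := ‹IsProper (X ↘ Spec (CommRingCat.of k))›
  haveI : LocallyOfFinitePresentation f :=
    H46.FibreDimNhd.locallyOfFinitePresentation (X ↘ Spec (CommRingCat.of k))
  obtain ⟨i, X₀, f₀, g, hlfp, hqc, hqs, hg⟩ := Groth.Agent.S0591.result D c hc X f
  haveI := hlfp
  haveI := hqc
  haveI := hqs
  haveI : CompactSpace X₀ := QuasiCompact.compactSpace_of_compactSpace f₀
  haveI : QuasiSeparatedSpace X₀ := quasiSeparatedSpace_of_quasiSeparated f₀
  haveI hDb : ∀ (a b : Over i) (h : a ⟶ b), IsAffineHom ((bcDiagram D f₀).map h) := fun a b h =>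
    Lim.Basic.isAffineHom_bcDiagram_map D f₀ h
  haveI : CompactSpace ((bcDiagram D f₀).obj (Over.mk (𝟙 i))) :=
    Lim.Basic.compactSpace_bcDiagram D f₀ _
  haveI : QuasiSeparatedSpace ((bcDiagram D f₀).obj (Over.mk (𝟙 i))) :=
    Lim.Basic.quasiSeparatedSpace_bcDiagram D f₀ _
  haveI : Coh.IsQCoh (X := (bcCone hg.w).pt) L := TensorMod.QCohInv.isQCoh_of_isInvertible hL
  have hLfp : CohB1.IsFP (X := X) L :=
    ZarCoh.FP.isFP_of_isCoh _ (Ample.GG.isCoh_of_isInvertible hL)
  obtain ⟨j, -, L₀, hq₀, hf₀, ⟨e⟩⟩ := Groth.Agent.S4788.result (bcDiagram D f₀) (bcCone hg.w)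
    (isLimitBcCone hc hg) (Over.mk (𝟙 i)) L hLfp
  let K : Type u := j.left.unop.1
  letI : Field K := inferInstanceAs (Field j.left.unop.1)
  haveI : Finite K := by
    haveI := j.left.unop.2
    exact Module.finite_of_finite F
  letI : Algebra K k := inferInstanceAs (Algebra j.left.unop.1 k)
  letI : (pullback f₀ (D.map j.hom)).Over (Spec (CommRingCat.of K)) := ⟨pullback.snd f₀ (D.map j.hom)⟩
  let g' : X ⟶ pullback f₀ (D.map j.hom) := (bcCone hg.w).π.app j
  have hP : IsPullback g' (X ↘ Spec (CommRingCat.of k))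
      (pullback f₀ (D.map j.hom) ↘ Spec (CommRingCat.of K))
      (Spec.map (CommRingCat.ofHom (algebraMap K k))) := isPullback_bcCone_π hg j
  exact torsion_of_model K k (X := X) (X₀ := pullback f₀ (D.map j.hom)) (g := g')
    hP hH hL hnum (L₀ := L₀) hq₀ hf₀ e

end Groth.Agent.Lib.PicBdd.AlgFp
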