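import Groth.Agent.Lib.Nakai.NTBound

/-!
# Invertible modules between two powers of an ample one: sections and intersection numbers on surfaces
-/

set_option autoImplicit false
set_option linter.style.haveILetI false
set_option linter.unusedSectionVars false
universe u

open CategoryTheory CategoryTheory.Limits AlgebraicGeometry TopologicalSpace

namespace Groth.Agent.Lib.PicBdd.Band

open Groth.Agent Groth.Agent.Lib Groth.Agent.Lib.Snapper Groth.Agent.Lib.IntTheory
open Groth.Agent.Lib.Nakai Groth.Agent.Lib.Nakai.Cut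
open Groth.Agent.Lib.Nakai.SubDevissage (PureAt SubThick)
open Groth.Agent.Lib.PosLin.SectionBound (h0 h0_congr h0_le_of_mono)
open Groth.Agent.Lib.Snapper.Vanish (sym)
open Groth.Agent.Lib.TensorMod.Basic (tmap comm assoc tensorIso leftUnit rightUnit)
open Groth.Agent.Lib.TensorMod.Invertible (isInvertible_tensorPow isInvertible_tensorMod
  isInvertible_dual tensorDualIso)

variable {X : Scheme.{u}}

/-- `H^a ⊗ L` and `H^a ⊗ L⁻¹` are ample. -/
def InBand (H : X.Modules) (a : ℕ) (L : X.Modules) : Prop :=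
  PicF.IsInvertible L ∧ CohB1.IsAmple (CohB1.tensorMod (CohB1.tensorPow H a) L) ∧
    CohB1.IsAmple (CohB1.tensorMod (CohB1.tensorPow H a) (TensorMod.Dual.dual L))

/-- Inverses are unique. -/
noncomputable def invUnique {A B C : X.Modules} (e₁ : CohB1.tensorMod A B ≅ Coh.structureModule X)
    (e₂ : CohB1.tensorMod B C ≅ Coh.structureModule X) : A ≅ C :=
  (rightUnit A).symm ≪≫ tensorIso (Iso.refl A) e₂.symm ≪≫ (assoc _ _ _).symm ≪≫
    tensorIso e₁ (Iso.refl C) ≪≫ leftUnit C

theorem InBand.dual {H L : X.Modules} {a : ℕ} (h : InBand H a L) :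
    InBand H a (TensorMod.Dual.dual L) :=
  ⟨isInvertible_dual h.1, h.2.2,
    Ample.Pow.isAmple_of_iso (tensorIso (Iso.refl _)
      (invUnique (tensorDualIso h.1) (tensorDualIso (isInvertible_dual h.1)))) h.2.1⟩

variable (k : Type u) [Field k] [X.Over (Spec (CommRingCat.of k))]
  [IsProper (X ↘ Spec (CommRingCat.of k))] {d : ℕ} (hd : topologicalKrullDim X ≤ d)

include hd

theorem ip_structure {z : X} {l : List X.Modules} (hl : ∀ M ∈ l, PicF.IsInvertible M)
    (hz : Main.pd k z ≤ l.length + 1) :
    ip k d (Coh.structureModule X :: l) z = 0 := by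
  have hO := PicLoc.isInvertible_structureModule X
  have h := ip_tensor (k := k) hd hO hO hl hz
  have e : ip k d (CohB1.tensorMod (Coh.structureModule X) (Coh.structureModule X) :: l) z =
      ip k d (Coh.structureModule X :: l) z := by
    simp only [ip, List.length_cons]
    rw [IntNum.sym_cons_iso (leftUnit (Coh.structureModule X))]
  omega

/-- An ample inverse has no sections on a closure of positive dimension. -/
theorem h0_anti_eq_zero {A : X.Modules} (hA : CohB1.IsAmple A) {y : X} (hy : 1 ≤ Main.pd k y) :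
    h0 k X (CohB1.tensorMod (TensorMod.Dual.dual A) (Cyc.closureStructureSheaf y)) = 0 := by
  have hO := PicLoc.isInvertible_structureModule X
  have hnil : ∀ M ∈ ([] : List X.Modules), PicF.IsInvertible M := fun M hM => by simp at hM
  have h1 : ∀ z : X, Main.pd k z = 1 → ip k d [Coh.structureModule X] z = 0 := fun z hz =>
    ip_structure k hd hnil (by simp [hz])
  have h := NumTrivial.h0_eq_zero (k := k) hd hO (fun z hz => (h1 z hz).ge) hA (m := 1) one_pos
    (fun z hz => by simpa using h1 z hz) (y := y) hy 1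
  have e : CohB1.tensorPow (Coh.structureModule X) 1 ≅ Coh.structureModule X := leftUnit _
  rwa [h0_congr (tensorIso e (Iso.refl _) ≪≫ leftUnit _)] at h

theorem nef_of_ample {A : X.Modules} (hA : CohB1.IsAmple A) : Kleiman.Nef k d A := fun z hz =>
  (Kleiman.ip_replicate_pos (k := k) hd hA.1 1 z hz (ampleAt_of_isAmple hA z)).le

/-- **Uniform bound on sections.** -/
theorem exists_bound (H : X.Modules) (a : ℕ) (hH : PicF.IsInvertible H) {G : X.Modules}
    (hG : Coh.IsCoh G) :
    ∃ K : ℕ, ∀ L : X.Modules, InBand H a L → h0 k X (CohB1.tensorMod L G) ≤ K := by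
  haveI := Curves.GlobalSections.isNoetherian_of_proper k X
  refine SubDevissage.devissage
    (fun G => ∃ K : ℕ, ∀ L : X.Modules, InBand H a L → h0 k X (CohB1.tensorMod L G) ≤ K)
    ⊤ ⟨fun G hz => ⟨0, fun L hL => ?_⟩, fun S hS h₁ h₂ h₃ hQ₁ hQ₃ => ?_, fun g hg hA hB hQ => ?_⟩
    (fun y _ => ?_) G ⟨hG, Set.subset_univ _⟩
  · have hz' : IsZero (CohB1.tensorMod L G) := by
      rw [← Modules.Support.support_eq_empty_iff, Twist.support_twist hL.1,
        Modules.Support.support_eq_empty_iff.2 hz]
    haveI := PosLin.CohBound.subsingleton_HH_isZero (k := k) hz' 0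
    simp [h0, Module.finrank_zero_of_subsingleton]
  · obtain ⟨K₁, hK₁⟩ := hQ₁
    obtain ⟨K₃, hK₃⟩ := hQ₃
    refine ⟨K₁ + K₃, fun L hL => ?_⟩
    refine le_trans (PosLin.CohBound.hd_mid_le (k := k) (Twist.twistSeq_shortExact hL.1 hS)
      (Twist.isCoh_twist hL.1 h₁.1) (Twist.isCoh_twist hL.1 h₂.1) (Twist.isCoh_twist hL.1 h₃.1) 0) ?_
    exact add_le_add (hK₁ L hL) (hK₃ L hL)
  · obtain ⟨K, hK⟩ := hQ
    refine ⟨K, fun L hL => ?_⟩
    haveI : Mono (tmap (𝟙 L) g) :=
      (Twist.twistSeq_shortExact hL.1 (Devissage.Basic.exists_ses_mono g)).mono_f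
    exact (h0_le_of_mono (k := k) (Twist.isCoh_twist hL.1 hB.1) (tmap (𝟙 _) g)).trans (hK L hL)
  · have hHa := isInvertible_tensorPow hH a
    have hH' := isInvertible_dual hHa
    set F := CohB1.tensorMod (TensorMod.Dual.dual (CohB1.tensorPow H a)) (Cyc.closureStructureSheaf y)
      with hFdef
    have hF : Coh.IsCoh F := Twist.isCoh_twist hH' (Devissage.Closure.isCoh_closureStructureSheaf y)
    refine ⟨F, ⟨hF, by
      rw [Twist.support_twist hH']
      exact Devissage.Closure.support_closureStructureSheaf y⟩, by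
      rw [Twist.length_twist hH', Devissage.Closure.length_closureStructureSheaf y],
      NumTrivial.pureAt_twist hH' y, ?_⟩
    rcases Nat.eq_zero_or_pos (Main.pd k y) with h | h
    · let Z := IntMult.ptIdeal y
      let i := Z.subschemeι
      letI : Z.subscheme.Over (Spec (CommRingCat.of k)) := ⟨i ≫ (X ↘ Spec (CommRingCat.of k))⟩
      haveI : IsProper (Z.subscheme ↘ Spec (CommRingCat.of k)) :=
        inferInstanceAs (IsProper (i ≫ (X ↘ Spec (CommRingCat.of k))))
      haveI : IsIntegral Z.subscheme := IntTheory.Curves.isIntegral_ptIdeal y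
      haveI := Curves.GlobalSections.isNoetherian_of_proper k Z.subscheme
      have hdimZ : topologicalKrullDim Z.subscheme = (0 : ℕ) :=
        (IntTheory.Curves.dim_ptIdeal y).trans ((dim_closure y).trans (congrArg Nat.cast h))
      refine ⟨h0 k Z.subscheme (Coh.structureModule Z.subscheme), fun L hL => ?_⟩
      have hE : PicF.IsInvertible
          (CohB1.tensorMod L (TensorMod.Dual.dual (CohB1.tensorPow H a))) :=
        isInvertible_tensorMod hL.1 hH'
      have hEi := PicLoc.isInvertible_pullback i hE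
      have e₂ : CohB1.tensorMod (CohB1.tensorMod L (TensorMod.Dual.dual (CohB1.tensorPow H a)))
            (Cyc.closureStructureSheaf y) ≅
          (Coh.push i).obj ((TensorMod.Pullback.pb i).obj
            (CohB1.tensorMod L (TensorMod.Dual.dual (CohB1.tensorPow H a)))) :=
        (Modules.ProjFormula.projIso i (Modules.DualBasis.hasDBases_of_isFinLocFree
            (TensorMod.LocFree.of_rank (TensorMod.LocFree.of_isInvertible hE)))).app
            (Coh.structureModule Z.subscheme) ≪≫
          (Coh.push i).mapIso (rightUnit _)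
      haveI : ((TensorMod.Pullback.pb i).obj (CohB1.tensorMod L
          (TensorMod.Dual.dual (CohB1.tensorPow H a)))).IsQuasicoherent :=
        (Ample.GG.isCoh_of_isInvertible hEi).1
      rw [hFdef, h0_congr ((assoc _ _ _).symm ≪≫ e₂)]
      unfold h0
      rw [SurfInt.Push.finrank_push i rfl]
      exact (VolNum.h0_eq_of_dim_zero (k := k) hdimZ hEi (PicLoc.isInvertible_structureModule _)).le
    · refine ⟨0, fun L hL => ?_⟩
      set Ha := CohB1.tensorPow H a
      let A := CohB1.tensorMod Ha (TensorMod.Dual.dual L)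
      let eB : CohB1.tensorMod (CohB1.tensorMod L (TensorMod.Dual.dual Ha)) A ≅
          Coh.structureModule X :=
        assoc _ _ _ ≪≫ tensorIso (Iso.refl L) ((assoc _ _ _).symm ≪≫
          tensorIso (comm _ _ ≪≫ tensorDualIso hHa) (Iso.refl _) ≪≫ leftUnit _) ≪≫ tensorDualIso hL.1
      have hz := h0_anti_eq_zero k hd hL.2.2 (y := y) h
      rw [h0_congr (tensorIso (invUnique eB (tensorDualIso hL.2.2.1)).symm (Iso.refl _) ≪≫
        assoc _ _ _)] at hz
      exact hz.le

/-- `(L · L') ≤ 3 a² (H · H)` on surfaces, `L'` inverse to `L`. -/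
theorem ip_pair_le {H : X.Modules} (hH : CohB1.IsAmple H) {a : ℕ} {L : X.Modules}
    (hL : InBand H a L) {y : X} (hy : Main.pd k y = 2) :
    ip k d [L, TensorMod.Dual.dual L] y ≤ 3 * (a : ℤ) ^ 2 * ip k d [H, H] y := by
  set L' := TensorMod.Dual.dual L
  set Ha := CohB1.tensorPow H a
  set A := CohB1.tensorMod Ha L
  set A' := CohB1.tensorMod Ha L'
  have hHi := hH.1
  have hHa : PicF.IsInvertible Ha := isInvertible_tensorPow hHi a
  have hL' : PicF.IsInvertible L' := isInvertible_dual hL.1
  have hA : PicF.IsInvertible A := hL.2.1.1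
  have hA' : PicF.IsInvertible A' := hL.2.2.1
  have one : ∀ {M : X.Modules}, PicF.IsInvertible M → ∀ Q ∈ [M], PicF.IsInvertible Q :=
    fun hM Q hQ => List.mem_singleton.1 hQ ▸ hM
  have hlen : ∀ M : X.Modules, Main.pd k y ≤ [M].length + 1 := fun M => by simp [hy]
  have sw : ∀ P Q : X.Modules, ip k d [P, Q] y = ip k d [Q, P] y := fun P Q =>
    ip_perm (k := k) (List.Perm.swap Q P []) y
  have tens : ∀ {P Q R : X.Modules}, PicF.IsInvertible P → PicF.IsInvertible Q → PicF.IsInvertible R →
      ip k d [CohB1.tensorMod P Q, R] y = ip k d [P, R] y + ip k d [Q, R] y := fun hP hQ hR =>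
    ip_tensor (k := k) hd hP hQ (one hR) (hlen _)
  have pow : ∀ {R : X.Modules}, PicF.IsInvertible R → ∀ n : ℕ,
      ip k d [CohB1.tensorPow H n, R] y = n * ip k d [H, R] y := fun hR n =>
    ip_pow (k := k) hd hHi (one hR) (hlen _) n
  have null : ∀ {R : X.Modules}, PicF.IsInvertible R →
      ip k d [L, R] y + ip k d [L', R] y = 0 := fun {R} hR => by
    rw [← tens hL.1 hL' hR]
    have : ip k d [CohB1.tensorMod L L', R] y = ip k d [Coh.structureModule X, R] y := by
      simp only [ip, List.length_cons]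
      rw [IntNum.sym_cons_iso (tensorDualIso hL.1)]
    rw [this]
    exact ip_structure k hd (one hR) (hlen _)
  have eA : ∀ {R : X.Modules}, PicF.IsInvertible R →
      ip k d [A, R] y = a * ip k d [H, R] y + ip k d [L, R] y := fun hR => by
    rw [tens hHa hL.1 hR, pow hR]
  have eA' : ∀ {R : X.Modules}, PicF.IsInvertible R →
      ip k d [A', R] y = a * ip k d [H, R] y + ip k d [L', R] y := fun hR => by
    rw [tens hHa hL' hR, pow hR]
  have p1 : 0 < ip k d [A, A] y :=
    Kleiman.ip_replicate_pos (k := k) hd hA 2 y hy (ampleAt_of_isAmple hL.2.1 y)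
  have p2 : 0 ≤ ip k d [A', H] y :=
    Kleiman.mixed_nonneg (k := k) hd hA' (nef_of_ample k hd hL.2.2) 2 y hy H hHi
      (ampleAt_of_isAmple hH y) 1 1 rfl
  have a1 := eA hA
  have a2 := eA' hHi
  have a3 := eA hHi
  have a4 := eA hL'
  have n1 := null hHi
  have n2 := null hA
  have n3 := null hL.1
  have s1 := sw H A
  have s2 := sw L A
  have s3 := sw L' A
  have s4 := sw H L
  have s5 := sw H L'
  have s6 := sw L' L
  have a5 := eA hL.1
  nlinarith [mul_nonneg (Int.natCast_nonneg a) p2]

end Groth.Agent.Lib.PicBdd.Band
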