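import Groth.Agent.Lib.PicBdd.Family
import Groth.Agent.Lib.PicBdd.Core
import Groth.Agent.Lib.Exchange.NearFibre
import Groth.Agent.Lib.PosLin.Volume
import Groth.Prelude.Def_FGA

/-!
# Intersection numbers are constant in invertible families over an integral base
-/

set_option autoImplicit false
set_option linter.style.haveILetI false
universe u

open CategoryTheory CategoryTheory.Limits AlgebraicGeometry TopologicalSpace

namespace Groth.Agent.Lib.PicBdd.IntConst

open Groth.Agent Groth.Agent.Lib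
open Groth.Agent.Lib.TensorMod.Basic (comm assoc tensorIso leftUnit rightUnit)
open Groth.Agent.Lib.TensorMod.Pullback (pullbackTensorIso)

theorem nonempty_pullback_tensorList {X Y : Scheme.{u}} (f : X ⟶ Y) {ι : Type*}
    (M : ι → X.Modules) (N : ι → Y.Modules)
    (e : ∀ i, Nonempty ((Scheme.Modules.pullback f).obj (N i) ≅ M i)) :
    ∀ l : List ι, Nonempty ((Scheme.Modules.pullback f).obj (FGA.tensorList (l.map N)) ≅
      FGA.tensorList (l.map M))
  | [] => ⟨PicLoc.pullbackStructureIso f⟩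
  | a :: l => by
    obtain ⟨ea⟩ := e a
    obtain ⟨el⟩ := nonempty_pullback_tensorList f M N e l
    exact ⟨pullbackTensorIso f _ _ ≪≫ tensorIso ea el⟩

variable {k : Type u} [Field k] {X : Scheme.{u}} [X.Over (Spec (CommRingCat.of k))]
  [IsProper (X ↘ Spec (CommRingCat.of k))]

/-- `intNum` of the fibres of invertible families is constant. -/
theorem intNum_eq {T : Scheme.{u}} (q : T ⟶ Spec (CommRingCat.of k)) [IsIntegral T]
    [LocallyOfFiniteType q] {r : ℕ} (N : Fin r → (Pic13.prodK k X q).Modules)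
    (hN : ∀ i, PicF.IsInvertible (N i)) {d : ℕ} (hd : topologicalKrullDim X ≤ d)
    (M M₀ : Fin r → X.Modules) (t t₀ : Spec (CommRingCat.of k) ⟶ T)
    (ht : t ≫ q = 𝟙 _) (ht₀ : t₀ ≫ q = 𝟙 _)
    (e : ∀ i, Nonempty (Pic13.fibreMod k X q t ht (N i) ≅ M i))
    (e₀ : ∀ i, Nonempty (Pic13.fibreMod k X q t₀ ht₀ (N i) ≅ M₀ i)) :
    FGA.intNum k X d M (Coh.structureModule X) = FGA.intNum k X d M₀ (Coh.structureModule X) := by
  haveI := Curves.GlobalSections.isNoetherian_of_proper k X
  haveI : IsLocallyNoetherian (Pic13.prodK k X q) :=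
    LocallyOfFiniteType.isLocallyNoetherian (pullback.snd (X ↘ Spec (CommRingCat.of k)) q ≫ q)
  haveI : Flat (X ↘ Spec (CommRingCat.of k)) := inferInstance
  haveI : Flat (pullback.snd (X ↘ Spec (CommRingCat.of k)) q) := inferInstance
  refine Finset.sum_congr rfl fun I _ => ?_
  have hG : PicF.IsInvertible (FGA.tensorList ((I.sort (· ≤ ·)).map N)) :=
    Snapper.Poly.tensorList_invertible fun A hA => by
      obtain ⟨i, -, rfl⟩ := List.mem_map.1 hA
      exact hN i
  obtain ⟨a⟩ := nonempty_pullback_tensorList (Pic13.sliceAt k X q t ht) M N e (I.sort (· ≤ ·))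
  obtain ⟨a₀⟩ := nonempty_pullback_tensorList (Pic13.sliceAt k X q t₀ ht₀) M₀ N e₀ (I.sort (· ≤ ·))
  rw [Snapper.Chi.eulerCharLE_of_iso (k := k) (rightUnit _), Snapper.Chi.eulerCharLE_of_iso (k := k) (rightUnit _),
    ← Snapper.Chi.eulerCharLE_of_iso (k := k) a, ← Snapper.Chi.eulerCharLE_of_iso (k := k) a₀]
  exact congrArg _ (Family.chi_eq_of_flat q (Ample.GG.isCoh_of_isInvertible hG)
    (_root_.ZarCoh.Exchange.NearFibre.isFlatOver_of_isFinLocFree _
      (TensorMod.LocFree.of_rank (TensorMod.LocFree.of_isInvertible hG))) hd t t₀ ht ht₀)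

omit [IsProper (X ↘ Spec (CommRingCat.of k))] in
/-- The fibre of the dual is the inverse of the fibre. -/
theorem nonempty_fibre_dual (p : Strata.Piece k X) (t : Spec (CommRingCat.of k) ⟶ p.T)
    (ht : t ≫ p.q = 𝟙 _) {L L' : X.Modules} (e : Pic13.fibreMod k X p.q t ht p.M ≅ L)
    (e' : CohB1.tensorMod L L' ≅ Coh.structureModule X) :
    Nonempty (Pic13.fibreMod k X p.q t ht (TensorMod.Dual.dual p.M) ≅ L') := by
  have hL : PicF.IsInvertible L :=
    TensorMod.Invertible.isInvertible_of_iso e (PicLoc.isInvertible_pullback _ p.inv)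
  have e₁ : CohB1.tensorMod L (Pic13.fibreMod k X p.q t ht (TensorMod.Dual.dual p.M)) ≅
      Coh.structureModule X :=
    tensorIso e.symm (Iso.refl _) ≪≫ (pullbackTensorIso _ _ _).symm ≪≫
      (Scheme.Modules.pullback _).mapIso (TensorMod.Invertible.tensorDualIso p.inv) ≪≫
      PicLoc.pullbackStructureIso _
  exact ⟨PosLin.Volume.inverseIso hL (comm _ _ ≪≫ e₁) ≪≫
    (PosLin.Volume.inverseIso hL (comm _ _ ≪≫ e')).symm⟩

end Groth.Agent.Lib.PicBdd.IntConst
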