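import Groth.Agent.Lib.PicBdd.BandReg
import Groth.Agent.Lib.PicBdd.Core
import Groth.Agent.Lib.PicBdd.IntConst
import Groth.Agent.Lib.UnifReg.OnX

/-!
# Bounded families of invertible modules are the ones between two powers of an ample module
-/

set_option autoImplicit false
set_option linter.style.haveILetI false
set_option linter.unusedSectionVars false
universe u

open CategoryTheory CategoryTheory.Limits AlgebraicGeometry TopologicalSpace

namespace Groth.Agent.Lib.PicBdd.BandBdd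

open Groth.Agent Groth.Agent.Lib
open Groth.Agent.Lib.Nakai.UnifVan (twX twXAdd twXZero isInvertible_twX)
open Groth.Agent.Lib.PicBdd.Band (InBand)
open Groth.Agent.Lib.TensorMod.Basic (comm assoc tensorIso leftUnit rightUnit)
open Groth.Agent.Lib.TensorMod.Invertible (isInvertible_tensorPow isInvertible_tensorMod
  isInvertible_dual tensorDualIso)

variable (k : Type u) [Field k] [IsAlgClosed k] {X : Scheme.{u}} [X.Over (Spec (CommRingCat.of k))]
  [IsProper (X ↘ Spec (CommRingCat.of k))]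

/-- Between two powers implies bounded. -/
theorem isBounded_inBand {H : X.Modules} (hH : CohB1.IsAmple H) (a : ℕ) :
    Pic13.IsBounded k X (InBand H a) := by
  haveI := Curves.GlobalSections.isNoetherian_of_proper k X
  obtain ⟨N, r, j, hN, hj, hjs, -⟩ := DepthTwist.Embed.exists_embedding (k := k) hH
  haveI := hj
  have hpd : ∀ x : X, Nakai.Main.pd k x < r + 1 + 1 := fun x =>
    Nakai.UnifVan.pd_lt_of_dim_lt (k := k) (T := Set.univ) isClosed_univ
      (((Homeomorph.Set.univ X).isHomeomorph.topologicalKrullDim_eq.le.trans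
        (Nakai.UnifVan.dim_le j hjs)).trans_lt (by exact_mod_cast Nat.lt_succ_self (r + 1)))
      (Set.mem_univ x)
  have hO := Snapper.Twist.isCoh_structureModule X
  obtain ⟨⟨m, hm⟩, -⟩ := BandReg.main (a := a) j hjs hH (r + 1 + 1) _ hO fun x _ => hpd x
  obtain ⟨-, hbd⟩ := BandReg.main (a := a) j hjs hH (r + 1 + 1) (twX j m)
    (Ample.GG.isCoh_of_isInvertible (isInvertible_twX j m)) fun x _ => hpd x
  obtain ⟨K, hK⟩ := hbd 0
  haveI : IsProper (CohB1.ProjSpace r k ↘ Spec (CommRingCat.of k)) :=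
    ProjSpace.Basic.isProper_toSpec r k
  refine BddFam.Presented.mono k (fun L hL => ?_) (BddFam.Regular.isBounded_pullback k j hjs
    (BddFam.Regular.isBounded_reg (n := r) (k := k) m K))
  have hLc := Ample.GG.isCoh_of_isInvertible hL.1
  let G := (Coh.push j).obj L
  have hG : Coh.IsCoh G := Cyc.Dev.SchemeEquiv.isCoh_push j hLc
  have hRG : ProjKoszul.Regularity.Reg G m := fun q hq => by
    obtain ⟨E⟩ := Nakai.UnifVan.nonempty_hh j hjs hLc (m - q) q
    have h : Subsingleton (Coh.HH X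
        (CohB1.tensorMod (CohB1.tensorMod L (Coh.structureModule X)) (twX j (m - q))) q) :=
      hm L hL q hq
    haveI : Subsingleton (Coh.HH X (CohB1.tensorMod L (twX j (m - q))) q) :=
      @Function.Injective.subsingleton _ _ _
        (Curves.LES.isoK k (tensorIso (rightUnit L).symm (Iso.refl _)) q).injective h
    exact E.injective.subsingleton
  haveI := Cyc.Dev.SchemeCase.isIso_counit j L
  refine ⟨G, ⟨hG, hRG, ?_⟩,
    ⟨asIso ((Scheme.Modules.pullbackPushforwardAdjunction j).counit.app L)⟩⟩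
  obtain ⟨E⟩ := Nakai.UnifVan.nonempty_hh j hjs hLc m 0
  rw [Curves.Euler.hdim, E.finrank_eq]
  exact hK L hL

omit [IsAlgClosed k] [IsProper (X ↘ Spec (CommRingCat.of k))] in
theorem nonempty_twX_pow {r : ℕ} (j : X ⟶ CohB1.ProjSpace r k) :
    ∀ c : ℕ, Nonempty (twX j (c : ℤ) ≅ CohB1.tensorPow (twX j 1) c)
  | 0 => ⟨twXZero j⟩
  | c + 1 => by
    obtain ⟨e⟩ := nonempty_twX_pow j c
    exact ⟨(twXAdd j (c : ℤ) 1 ((c + 1 : ℕ) : ℤ) (by push_cast; ring)).symm ≪≫
      tensorIso e (Iso.refl _)⟩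

omit [IsAlgClosed k] in
/-- An invertible module which is `m`-regular becomes ample after `m + 1` twists. -/
theorem isAmple_of_reg {r : ℕ} (j : X ⟶ CohB1.ProjSpace r k) [IsClosedImmersion j]
    (hjs : j ≫ CohB1.ProjSpace.toSpec r k = X ↘ Spec (CommRingCat.of k))
    (hO1 : CohB1.IsAmple (twX j 1)) {L : X.Modules} (hL : PicF.IsInvertible L) {m : ℕ}
    (h : Pic13.IsMRegular k j L (m : ℤ)) :
    CohB1.IsAmple (CohB1.tensorMod (CohB1.tensorPow (twX j 1) (m + 1)) L) := by
  have hLc := Ample.GG.isCoh_of_isInvertible hL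
  have hG := Cyc.Dev.SchemeEquiv.isCoh_push j hLc
  have hRG : ProjKoszul.Regularity.Reg ((Coh.push j).obj L) (m : ℤ) := fun q hq => by
    obtain ⟨E⟩ := Nakai.UnifVan.nonempty_hh j hjs hLc ((m : ℤ) - q) q
    have h' : Subsingleton (Coh.HH X (CohB1.tensorMod L (twX j ((m : ℤ) - q))) q) := h q hq
    exact E.injective.subsingleton
  haveI := Cyc.Dev.SchemeCase.isIso_counit j L
  let eL : (Scheme.Modules.pullback j).obj ((Coh.push j).obj L) ≅ L :=
    asIso ((Scheme.Modules.pullbackPushforwardAdjunction j).counit.app L)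
  obtain ⟨ep⟩ := nonempty_twX_pow k j m
  have hgg : Curv2.IsGloballyGenerated (CohB1.tensorMod L (CohB1.tensorPow (twX j 1) m)) :=
    UnifReg.OnX.gg_iso (TensorMod.Pullback.pullbackTensorIso j _ _ ≪≫ tensorIso eL ep)
      (UnifReg.OnX.gg_pullback j (ProjKoszul.Regularity.isGloballyGenerated_of_le hG hRG le_rfl))
  have hM := isInvertible_tensorMod hL (isInvertible_tensorPow hO1.1 m)
  refine Ample.Pow.isAmple_of_iso ?_ (Ample.Basis.isAmple_tensor hO1 hM fun x => ?_)
  · exact tensorIso (Iso.refl _) (comm _ _) ≪≫ (assoc _ _ _).symm ≪≫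
      tensorIso (comm _ _) (Iso.refl _)
  · obtain ⟨s, hs⟩ := Ample.GG.exists_genLocus_of_genAt hM (H34.GlobGen.gl_eq_top_of_gg hgg x)
    exact ⟨1, one_pos, s ≫ (Ample.Pow.powOne _).symm.hom,
      by rw [Ample.GenLocus.genLocus_comp_iso]; exact hs⟩

/-- The flat family of inverses over a piece. -/
theorem exists_dual_piece (p : Strata.Piece k X) :
    ∃ p' : FlatPieces.Piece k X, ∀ (t : Spec (CommRingCat.of k) ⟶ p.T) (ht : t ≫ p.q = 𝟙 _)
      (L L' : X.Modules), (Pic13.fibreMod k X p.q t ht p.M ≅ L) →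
        (CohB1.tensorMod L L' ≅ Coh.structureModule X) →
          FlatPieces.Covers k X [p'] L' := by
  haveI := p.lft
  haveI : IsLocallyNoetherian (Pic13.prodK k X p.q) :=
    LocallyOfFiniteType.isLocallyNoetherian (pullback.snd (X ↘ Spec (CommRingCat.of k)) p.q ≫ p.q)
  haveI : Flat (X ↘ Spec (CommRingCat.of k)) := inferInstance
  haveI : Flat (pullback.snd (X ↘ Spec (CommRingCat.of k)) p.q) := inferInstance
  have hD := isInvertible_dual p.inv
  refine ⟨⟨p.T, p.q, p.integral, p.lft, p.qc, TensorMod.Dual.dual p.M,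
    Ample.GG.isCoh_of_isInvertible hD, _root_.ZarCoh.Exchange.NearFibre.isFlatOver_of_isFinLocFree _
      (TensorMod.LocFree.of_rank (TensorMod.LocFree.of_isInvertible hD))⟩,
    fun t ht L L' e e' => ?_⟩
  obtain ⟨e''⟩ := IntConst.nonempty_fibre_dual p t ht e e'
  exact ⟨_, List.mem_singleton.2 rfl, t, ht, ⟨e''⟩⟩

/-- Bounded implies between two powers. -/
theorem exists_inBand {H : X.Modules} (hH : CohB1.IsAmple H) {P : X.Modules → Prop}
    (hP : ∀ L, P L → PicF.IsInvertible L) (hb : Pic13.IsBounded k X P) :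
    ∃ N : ℕ, ∀ L L' : X.Modules, P L → Nonempty (CohB1.tensorMod L L' ≅ Coh.structureModule X) →
      CohB1.IsAmple (CohB1.tensorMod (CohB1.tensorPow H N) L) ∧
        CohB1.IsAmple (CohB1.tensorMod (CohB1.tensorPow H N) L') := by
  classical
  haveI := Curves.GlobalSections.isNoetherian_of_proper k X
  obtain ⟨N₀, r, j, hN₀, hj, hjs, ⟨eN⟩⟩ := DepthTwist.Embed.exists_embedding (k := k) hH
  haveI := hj
  have hO1 : CohB1.IsAmple (twX j 1) :=
    Ample.Pow.isAmple_of_iso eN ((Ample.Pow.isAmple_tensorPow_iff hH.1 hN₀).mp hH)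
  obtain ⟨⟨m₁, hm₁⟩, -⟩ := Family.exists_reg_and_polys j hjs hb
  obtain ⟨ps, hps⟩ := Core.exists_covers k hb
  choose p' hp' using fun p : Strata.Piece k X => exists_dual_piece k p
  choose mP hmP using fun p : FlatPieces.Piece k X => Family.exists_reg_piece j hjs p
  let m : ℕ := max m₁.toNat ((ps.map fun p => mP (p' p)).sum)
  have key : ∀ M : X.Modules, PicF.IsInvertible M → Pic13.IsMRegular k j M (m : ℤ) →
      CohB1.IsAmple (CohB1.tensorMod (CohB1.tensorPow H (N₀ * (m + 1))) M) := fun M hM hr =>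
    Ample.Pow.isAmple_of_iso (tensorIso (Ample.Pow.powIso eN.symm (m + 1) ≪≫
      Ample.Pow.powMul H N₀ (m + 1)) (Iso.refl M)) (isAmple_of_reg k j hjs hO1 hM hr)
  refine ⟨N₀ * (m + 1), fun L L' hPL ⟨e⟩ => ?_⟩
  have hL := hP L hPL
  have hL' : PicF.IsInvertible L' := TensorMod.TensorInv.isInvertible_of_tensor_iso (comm L' L ≪≫ e)
  refine ⟨key L hL (Family.reg_mono j hjs (Ample.GG.isCoh_of_isInvertible hL)
    (by omega) (hm₁ L hPL)), key L' hL' ?_⟩
  obtain ⟨p, hp, t, ht, ⟨et⟩⟩ := hps L hPL hL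
  obtain ⟨q, hq, t', ht', ⟨et'⟩⟩ := hp' p t ht L L' et e
  obtain rfl := List.mem_singleton.1 hq
  have hle : mP (p' p) ≤ m :=
    (List.single_le_sum (l := ps.map fun p => mP (p' p)) (fun _ _ => Nat.zero_le _) _
      (List.mem_map.2 ⟨p, hp, rfl⟩)).trans (le_max_right m₁.toNat _)
  have hreg := hmP (p' p) t' ht'
  refine Family.reg_mono j hjs (Ample.GG.isCoh_of_isInvertible hL') (m := (mP (p' p) : ℤ))
    (by exact_mod_cast hle) fun i hi => ?_
  exact @Function.Injective.subsingleton _ _ _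
    (Curves.LES.isoK k (tensorIso et' (Iso.refl _)) i).symm.injective (hreg i hi)

end Groth.Agent.Lib.PicBdd.BandBdd
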