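import Groth.Agent.Lib.DualAsymp96.Main
import Groth.Agent.Lib.Cyc.SheafLen

/-!
# `dim Ext¹(F, ω) ≤ dim H^{n-1}(F)` on any closed subscheme of projective space
-/

set_option autoImplicit false
set_option linter.style.haveILetI false
set_option linter.unusedSectionVars false
universe u

open CategoryTheory CategoryTheory.Limits AlgebraicGeometry

noncomputable section

namespace Groth.Agent.Lib.PicBdd.DualBound

open CategoryTheory.Abelian
open Groth.Agent.Lib Groth.Agent.Lib.ProjCoh Groth.Agent.Lib.ProjCoh.Coherent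
open ClosedSub (tX)
open Groth.Agent.Lib.PosLin.CohBound (hd hd_congr)

variable {k : Type u} [Field k] {X : Scheme.{u}} [X.Over (Spec (CommRingCat.of k))]
  [IsProper (X ↘ Spec (CommRingCat.of k))] {N n : ℕ} (ι : X ⟶ CohB1.ProjSpace N k)
  [IsClosedImmersion ι] {ω : X.Modules} {t : Coh.HH X ω n →ₗ[k] k}

include ι in
/-- A coherent module is a quotient of one without `Ext^{>0}(-, ω)`. -/
theorem exists_cover [HasExt.{u} X.Modules] (hω : Coh.IsCoh ω) {F : X.Modules} (hF : Coh.IsCoh F) :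
    ∃ S : ShortComplex X.Modules, S.ShortExact ∧ Coh.IsCoh S.X₁ ∧ Coh.IsCoh S.X₂ ∧ S.X₃ = F ∧
      ∀ q, q ≠ 0 → Subsingleton (Ext.{u} S.X₂ ω q) := by
  haveI := ClosedSub.isLocallyNoetherian ι
  obtain ⟨a, ha⟩ := DualityCM.exists_ext_tX_vanish ι ω hω
  obtain ⟨c, m, p, hm, hp⟩ := SerreDual.exists_epi_ge _ (Cyc.Dev.SchemeEquiv.isCoh_push ι hF) a
  let q : (Scheme.Modules.pullback ι).obj (sumTS N k c (-(m : ℤ))) ⟶ F :=
    (Scheme.Modules.pullback ι).map p ≫ (Scheme.Modules.pullbackPushforwardAdjunction ι).counit.app F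
  haveI : (Scheme.Modules.pullback ι).PreservesEpimorphisms :=
    Functor.preservesEpimorphisms_of_adjunction (Scheme.Modules.pullbackPushforwardAdjunction ι)
  haveI := hp
  haveI := Cyc.Dev.SchemeCase.isIso_counit ι F
  haveI : Epi q := epi_comp _ _
  have hE : Coh.IsCoh ((Scheme.Modules.pullback ι).obj (sumTS N k c (-(m : ℤ)))) :=
    Cyc.FP.Stalk.isCoh_pullback ι (isCoh_sumTS c _)
  haveI : PreservesColimitsOfSize.{0, 0} (Scheme.Modules.pullback ι) :=
    (Scheme.Modules.pullbackPushforwardAdjunction ι).leftAdjoint_preservesColimits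
  let e : (Scheme.Modules.pullback ι).obj (sumTS N k c (-(m : ℤ))) ≅
      ∐ fun _ : Fin c => tX ι (-(m : ℤ)) :=
    PreservesCoproduct.iso (Scheme.Modules.pullback ι) _ ≪≫
      Sigma.mapIso fun _ => (Scheme.Modules.pullback ι).mapIso (twIso _).symm
  exact ⟨ShortComplex.mk (kernel.ι q) q (kernel.condition q),
    { exact := ShortComplex.exact_of_f_is_kernel _ (kernelIsKernel q), epi_g := ‹_› },
    CohBasics.Closure.isCoh_kernel q hE hF.1, hE, rfl, fun i hi =>
      SerreDual.subsingleton_ext_iso e (Iso.refl ω) i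
        (SerreDual.subsingleton_ext_sigma _ _ c i (ha m hm i hi))⟩

include ι in
/-- **The inequality.** -/
theorem finrank_ext_one_le [HasExt.{u} X.Modules] (hω : Coh.IsCoh ω)
    (hd' : DualityCM.IsDualizing ω t) {j : ℕ} (hj : j + 1 = n) {F : X.Modules} (hF : Coh.IsCoh F) :
    Module.finrank k (Ext.{u} F ω 1) ≤ hd k X F j := by
  obtain ⟨S, hS, h1, h2, rfl, hv⟩ := exists_cover (k := k) ι hω hF
  haveI : Module.Finite k (Coh.HH X S.X₃ j) := Snapper.Finite.cohFinite k X _ hF j
  let δ := (Curves.LES.δK k hS j n hj).dualMap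
  have hex : Function.Exact (Curves.LES.mapK k S.f n).dualMap δ.rangeRestrict := fun x => by
    refine Iff.trans ?_ (SerreDual.exact_dualMap (Curves.LES.exactK₁ k hS j n hj) x)
    exact ⟨fun h => congrArg Subtype.val h, fun h => Subtype.ext h⟩
  obtain ⟨E⟩ := @SerreDual.nonempty_equiv_of_exact k _ (Ext.{u} S.X₂ ω 0) (Ext.{u} S.X₁ ω 0)
    (Ext.{u} S.X₃ ω 1) (Module.Dual k (Coh.HH X S.X₂ n)) (Module.Dual k (Coh.HH X S.X₁ n))
    (LinearMap.range δ) _ _ _ _ _ _ _ _ _ _ _ _
    (SerreDual.pre k (Ext.mk₀ S.f) ω (zero_add 0))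
    (SerreDual.pre k hS.extClass ω (rfl : 1 + 0 = 1))
    (SerreDual.surjective_pre k hS _ rfl (hv 1 one_ne_zero)) (SerreDual.exact_pre₁ k hS _ rfl)
    (Curves.LES.mapK k S.f n).dualMap δ.rangeRestrict δ.surjective_rangeRestrict hex
    (DualityCM.θ hd' S.X₂ h2) (DualityCM.θ hd' S.X₁ h1)
    fun x => DualityCM.θ_natural hd' h1 h2 S.f x
  rw [E.finrank_eq]
  exact (Submodule.finrank_le _).trans Subspace.dual_finrank_eq.le

include ι in
/-- `h¹(ω ⊗ C) ≤ h^{n-1}(D)` for `D` inverse to `C`. -/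
theorem hd_one_le (hω : Coh.IsCoh ω) (hd' : DualityCM.IsDualizing ω t) {j : ℕ} (hj : j + 1 = n)
    {C D : X.Modules} (hD : PicF.IsInvertible D)
    (e : CohB1.tensorMod D C ≅ Coh.structureModule X) :
    hd k X (CohB1.tensorMod ω C) 1 ≤ hd k X D j := by
  haveI := Curves.GlobalSections.isNoetherian_of_proper k X
  haveI : HasExt.{u} X.Modules := hasExt_of_enoughInjectives _
  obtain ⟨E⟩ := DualAsymp96.exists_ext_equiv (k := k) (ω := ω) hD e 1
  exact E.finrank_eq.symm.le.trans
    (finrank_ext_one_le ι hω hd' hj (Ample.GG.isCoh_of_isInvertible hD))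

include ι in
/-- On an integral closed subscheme of projective space some coherent module of length one at the
generic point has `h¹` of its invertible twists bounded by `h^{n-1}` of the inverse. -/
theorem exists_generic (hι : ι ≫ CohB1.ProjSpace.toSpec N k = X ↘ Spec (CommRingCat.of k))
    [IsIntegral X] (hn : topologicalKrullDim X = (n : WithBot ℕ∞)) {j : ℕ} (hj : j + 1 = n) :
    ∃ ω : X.Modules, Coh.IsCoh ω ∧
      Module.length (X.presheaf.stalk (genericPoint X)) (ω.presheaf.stalk (genericPoint X)) = 1 ∧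
      ∀ C D : X.Modules, PicF.IsInvertible D →
        Nonempty (CohB1.tensorMod D C ≅ Coh.structureModule X) →
          hd k X (CohB1.tensorMod ω C) 1 ≤ hd k X D j := by
  obtain ⟨ω, t, hω, hd', -, hrk⟩ := ProjDualExt.Integral.exists_model ι hι hn
  refine ⟨ω, hω, ?_, fun C D hD he => hd_one_le ι hω hd' hj hD he.some⟩
  letI : Field (X.presheaf.stalk (genericPoint X)) :=
    inferInstanceAs (Field X.functionField)
  haveI : Module.Finite (X.presheaf.stalk (genericPoint X)) (ω.presheaf.stalk (genericPoint X)) :=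
    Module.finite_of_finrank_eq_succ hrk
  rw [Module.length_eq_finrank (X.presheaf.stalk (genericPoint X)), hrk]
  rfl

end Groth.Agent.Lib.PicBdd.DualBound
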