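import Groth.Agent.Lib.PicBdd.Band
import Groth.Agent.Lib.PicBdd.DualBound
import Groth.Agent.Lib.Nakai.UnifVan
import Groth.Agent.Lib.CohDelta.DevApps

/-!
# Uniform regularity of modules between two powers of an ample one
-/

set_option autoImplicit false
set_option linter.style.haveILetI false
set_option linter.unusedSectionVars false
universe u

open CategoryTheory CategoryTheory.Limits AlgebraicGeometry TopologicalSpace

namespace Groth.Agent.Lib.PicBdd.BandReg

open Groth.Agent Groth.Agent.Lib Groth.Agent.Lib.Snapper Groth.Agent.Lib.IntTheory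
open Groth.Agent.Lib.Nakai Groth.Agent.Lib.Nakai.Cut
open Groth.Agent.Lib.Nakai.UnifVan (twX twXAdd twXZero isInvertible_twX)
open Groth.Agent.Lib.PicBdd.Band (InBand)
open Groth.Agent.Lib.PosLin.CohBound (hd hd_congr)
open Groth.Agent.Lib.Snapper.Vanish (sym sym_cons sym_of_iso)
open Groth.Agent.Lib.TensorMod.Basic (tmap comm assoc tensorIso leftUnit rightUnit)
open Groth.Agent.Lib.TensorMod.Invertible (isInvertible_tensorPow isInvertible_tensorMod
  isInvertible_dual tensorDualIso)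

variable {k : Type u} [Field k] {X : Scheme.{u}} [X.Over (Spec (CommRingCat.of k))]
  [IsProper (X ↘ Spec (CommRingCat.of k))]

variable (k) in
/-- `dim H^q(L ⊗ G)` is bounded on the band. -/
def Bdd (H : X.Modules) (a q : ℕ) (G : X.Modules) : Prop :=
  ∃ K : ℕ, ∀ L : X.Modules, InBand H a L → hd k X (CohB1.tensorMod L G) q ≤ K

variable {H : X.Modules} {a : ℕ}

theorem Bdd.of_iso {q : ℕ} {G G' : X.Modules} (e : G ≅ G') (h : Bdd k H a q G) : Bdd k H a q G' := by
  obtain ⟨K, hK⟩ := h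
  exact ⟨K, fun L hL => (hd_congr (tensorIso (Iso.refl L) e.symm) q).le.trans (hK L hL)⟩

theorem bdd_of_isZero (q : ℕ) {G : X.Modules} (hz : IsZero G) : Bdd k H a q G := by
  refine ⟨0, fun L hL => ?_⟩
  have hz' : IsZero (CohB1.tensorMod L G) := by
    rw [← Modules.Support.support_eq_empty_iff, Twist.support_twist hL.1,
      Modules.Support.support_eq_empty_iff.2 hz]
  haveI := PosLin.CohBound.subsingleton_HH_isZero (k := k) hz' q
  exact Module.finrank_zero_of_subsingleton.le

section Ses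

variable {S : ShortComplex X.Modules} (hS : S.ShortExact) (h₁ : Coh.IsCoh S.X₁) (h₂ : Coh.IsCoh S.X₂)
  (h₃ : Coh.IsCoh S.X₃)

include hS h₁ h₂ h₃

theorem bdd_mid {q : ℕ} (b₁ : Bdd k H a q S.X₁) (b₃ : Bdd k H a q S.X₃) : Bdd k H a q S.X₂ := by
  obtain ⟨K₁, hK₁⟩ := b₁
  obtain ⟨K₃, hK₃⟩ := b₃
  exact ⟨K₁ + K₃, fun L hL => (PosLin.CohBound.hd_mid_le (k := k)
    (Twist.twistSeq_shortExact hL.1 hS) (Twist.isCoh_twist hL.1 h₁) (Twist.isCoh_twist hL.1 h₂)
    (Twist.isCoh_twist hL.1 h₃) q).trans (add_le_add (hK₁ L hL) (hK₃ L hL))⟩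

theorem bdd_left {q : ℕ} (b₂ : Bdd k H a q S.X₂) (b₃ : Bdd k H a (q - 1) S.X₃) :
    Bdd k H a q S.X₁ := by
  obtain ⟨K₂, hK₂⟩ := b₂
  obtain ⟨K₃, hK₃⟩ := b₃
  exact ⟨K₂ + K₃, fun L hL => (PosLin.CohBound.hd_left_le (k := k)
    (Twist.twistSeq_shortExact hL.1 hS) (Twist.isCoh_twist hL.1 h₁) (Twist.isCoh_twist hL.1 h₂)
    (Twist.isCoh_twist hL.1 h₃) q).trans (add_le_add (hK₂ L hL) (hK₃ L hL))⟩

theorem bdd_right {q : ℕ} (b₂ : Bdd k H a q S.X₂) (b₁ : Bdd k H a (q + 1) S.X₁) :
    Bdd k H a q S.X₃ := by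
  obtain ⟨K₂, hK₂⟩ := b₂
  obtain ⟨K₁, hK₁⟩ := b₁
  exact ⟨K₂ + K₁, fun L hL => (PosLin.CohBound.hd_right_le (k := k)
    (Twist.twistSeq_shortExact hL.1 hS) (Twist.isCoh_twist hL.1 h₁) (Twist.isCoh_twist hL.1 h₂)
    (Twist.isCoh_twist hL.1 h₃) q).trans (add_le_add (hK₂ L hL) (hK₁ L hL))⟩

end Ses

/-- `h¹` on surfaces from the other degrees. -/
theorem bdd_one_surface {N : ℕ} (hN : topologicalKrullDim X ≤ (N : ℕ)) (hH : CohB1.IsAmple H) {y : X}
    (hy : Main.pd k y ≤ 2) (hN1 : 1 ≤ N)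
    (hb : ∀ q, q ≠ 1 → Bdd k H a q (Cyc.closureStructureSheaf y)) :
    Bdd k H a 1 (Cyc.closureStructureSheaf y) := by
  classical
  haveI := Curves.GlobalSections.isNoetherian_of_proper k X
  set O := Cyc.closureStructureSheaf y
  have hO : Coh.IsCoh O := Devissage.Closure.isCoh_closureStructureSheaf y
  choose K hK using hb
  let S : ℕ := ∑ q ∈ (Finset.range (N + 1)).erase 1, if h : q ≠ 1 then K q h else 0
  have hsum : ∀ L, InBand H a L →
      (∑ q ∈ (Finset.range (N + 1)).erase 1, hd k X (CohB1.tensorMod L O) q) ≤ S := fun L hL =>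
    Finset.sum_le_sum fun q hq => by
      rw [dif_pos (Finset.ne_of_mem_erase hq)]
      exact hK q (Finset.ne_of_mem_erase hq) L hL
  have hbounds : ∀ L, InBand H a L →
      FGA.eulerCharLE k X (CohB1.tensorMod L O) N + (hd k X (CohB1.tensorMod L O) 1 : ℤ) ≤ (S : ℤ) ∧
      -(S : ℤ) ≤ FGA.eulerCharLE k X (CohB1.tensorMod L O) N + (hd k X (CohB1.tensorMod L O) 1 : ℤ) := by
    intro L hL
    have h := hsum L hL
    have h' : ((∑ q ∈ (Finset.range (N + 1)).erase 1, hd k X (CohB1.tensorMod L O) q : ℕ) : ℤ) ≤ S := by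
      exact_mod_cast h
    push_cast at h'
    unfold FGA.eulerCharLE
    rw [← Finset.add_sum_erase _ _ (Finset.mem_range.2 (show 1 < N + 1 by omega))]
    set f : ℕ → ℤ := fun q => (-1 : ℤ) ^ q * (Module.finrank k (Coh.HH X (CohB1.tensorMod L O) q) : ℤ)
    have habs : |∑ q ∈ (Finset.range (N + 1)).erase 1, f q| ≤ (S : ℤ) :=
      (Finset.abs_sum_le_sum_abs _ _).trans (le_of_eq_of_le
        (Finset.sum_congr rfl fun q _ => by simp [f, abs_mul]) h')
    obtain ⟨h1, h2⟩ := abs_le.1 habs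
    constructor <;> (simp only [pow_one, f, hd] at h1 h2 ⊢; omega)
  have hipb : ∀ L, InBand H a L →
      sym k X N [L, TensorMod.Dual.dual L] O ≤ 3 * (a : ℤ) ^ 2 * |ip k N [H, H] y| := by
    intro L hL
    have hl : ∀ M ∈ [L, TensorMod.Dual.dual L], PicF.IsInvertible M := fun M hM => by
      rcases List.mem_cons.1 hM with rfl | hM
      · exact hL.1
      · exact List.mem_singleton.1 hM ▸ isInvertible_dual hL.1
    rcases lt_or_eq_of_le hy with h | h
    · rw [Additive.vanishBelow_sym (Finite.cohFinite k X) hN hl rfl O hO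
        ((dim_support_closure (k := k) y).trans_lt (by exact_mod_cast h))]
      positivity
    · have h1 := Band.ip_pair_le k hN hH hL h
      have h2 : sym k X N [L, TensorMod.Dual.dual L] O = ip k N [L, TensorMod.Dual.dual L] y := by
        simp [ip, O]
      rw [h2]
      exact h1.trans (mul_le_mul_of_nonneg_left (le_abs_self _) (by positivity))
  refine ⟨(2 * (S : ℤ) + 2 * |FGA.eulerCharLE k X O N| + 3 * (a : ℤ) ^ 2 * |ip k N [H, H] y|).toNat,
    fun L hL => ?_⟩
  set L' := TensorMod.Dual.dual L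
  have h1 := hbounds L hL
  have h2 := hbounds L' hL.dual
  have h3 := hipb L hL
  simp only [Vanish.sym] at h3
  rw [Chi.eulerCharLE_of_iso (k := k) ((assoc _ _ _).symm ≪≫
    tensorIso (comm _ _ ≪≫ tensorDualIso hL.1) (Iso.refl O) ≪≫ leftUnit O)] at h3
  have h4 := le_abs_self (FGA.eulerCharLE k X O N)
  have h5 := neg_abs_le (FGA.eulerCharLE k X O N)
  have h6 : (hd k X (CohB1.tensorMod L O) 1 : ℤ) ≤
      2 * (S : ℤ) + 2 * |FGA.eulerCharLE k X O N| + 3 * (a : ℤ) ^ 2 * |ip k N [H, H] y| := by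
    have h7 : (0 : ℤ) ≤ (hd k X (CohB1.tensorMod L' O) 1 : ℤ) := Int.natCast_nonneg _
    linarith [h1.1, h2.1, h3]
  omega

variable {n : ℕ} (i : X ⟶ CohB1.ProjSpace n k) [IsClosedImmersion i]
  (hi : i ≫ CohB1.ProjSpace.toSpec n k = X ↘ Spec (CommRingCat.of k))

include hi in
/-- `h¹` in dimension at least three: by duality from `h^{d-1}`. -/
theorem exists_gen {y : X} {d : ℕ} (hy : Main.pd k y = d + 1)
    (hb : Bdd k H a d (Cyc.closureStructureSheaf y)) :
    ∃ F : X.Modules, Devissage.Basic.CohIn (closure {y}) F ∧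
      Module.length (X.presheaf.stalk y) (F.presheaf.stalk y) = 1 ∧ Bdd k H a 1 F := by
  haveI := Curves.GlobalSections.isNoetherian_of_proper k X
  let Z := IntMult.ptIdeal y
  let ι := Z.subschemeι
  letI : Z.subscheme.Over (Spec (CommRingCat.of k)) := ⟨ι ≫ (X ↘ Spec (CommRingCat.of k))⟩
  haveI : IsProper (Z.subscheme ↘ Spec (CommRingCat.of k)) :=
    inferInstanceAs (IsProper (ι ≫ (X ↘ Spec (CommRingCat.of k))))
  obtain ⟨hint, hgen⟩ := CohDelta.DevApps.isIntegral_ptIdeal y
  haveI := Curves.GlobalSections.isNoetherian_of_proper k Z.subscheme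
  have hdimZ : topologicalKrullDim Z.subscheme = ((d + 1 : ℕ) : WithBot ℕ∞) :=
    (IntTheory.Curves.dim_ptIdeal y).trans ((dim_closure y).trans (congrArg Nat.cast hy))
  obtain ⟨ω, hω, hlen, hbd⟩ := DualBound.exists_generic (ι ≫ i)
    (show (ι ≫ i) ≫ CohB1.ProjSpace.toSpec n k = ι ≫ (X ↘ Spec (CommRingCat.of k)) by
      rw [Category.assoc, hi]) hdimZ (j := d) rfl
  obtain ⟨K, hK⟩ := hb
  refine ⟨(Coh.push ι).obj ω, ⟨Cyc.Dev.SchemeEquiv.isCoh_push ι hω, ?_⟩, ?_, K, fun L hL => ?_⟩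
  · rw [Positive.support_push, ← Devissage.Closure.range_ptIdeal y]
    exact Set.image_subset_range _ _
  · have h := Cyc.SheafLen.length_push_stalk ι ω (genericPoint Z.subscheme)
    rw [hgen] at h
    rw [h]; exact hlen
  · set L' := TensorMod.Dual.dual L
    have eP : ∀ {M : X.Modules}, PicF.IsInvertible M → ∀ F : Z.subscheme.Modules,
        Nonempty (CohB1.tensorMod M ((Coh.push ι).obj F) ≅
          (Coh.push ι).obj (CohB1.tensorMod ((TensorMod.Pullback.pb ι).obj M) F)) := fun hM F =>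
      ⟨(Modules.ProjFormula.projIso ι (Modules.DualBasis.hasDBases_of_isFinLocFree
        (TensorMod.LocFree.of_rank (TensorMod.LocFree.of_isInvertible hM)))).app F⟩
    have hLi := PicLoc.isInvertible_pullback ι hL.1
    have hLi' := PicLoc.isInvertible_pullback ι (isInvertible_dual hL.1)
    obtain ⟨e1⟩ := eP hL.1 ω
    have hstep := hbd ((TensorMod.Pullback.pb ι).obj L) ((TensorMod.Pullback.pb ι).obj L') hLi'
      ⟨(TensorMod.Pullback.pullbackTensorIso ι L' L).symm ≪≫
        (TensorMod.Pullback.pb ι).mapIso (comm _ _ ≪≫ tensorDualIso hL.1) ≪≫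
        PicLoc.pullbackStructureIso ι⟩
    haveI : (CohB1.tensorMod ((TensorMod.Pullback.pb ι).obj L) ω).IsQuasicoherent :=
      (Twist.isCoh_twist hLi hω).1
    haveI : ((TensorMod.Pullback.pb ι).obj L').IsQuasicoherent :=
      (Ample.GG.isCoh_of_isInvertible hLi').1
    have h2 := hK L' hL.dual
    obtain ⟨e2⟩ := eP (isInvertible_dual hL.1) (Coh.structureModule Z.subscheme)
    let e3 : CohB1.tensorMod L' (Cyc.closureStructureSheaf y) ≅
        (Coh.push ι).obj ((TensorMod.Pullback.pb ι).obj L') :=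
      e2 ≪≫ (Coh.push ι).mapIso (rightUnit _)
    rw [hd_congr e3, hd, SurfInt.Push.finrank_push ι rfl] at h2
    rw [hd_congr e1, hd, SurfInt.Push.finrank_push ι rfl]
    exact ((hd_congr (k := k) (comm _ _) 1).le.trans hstep).trans h2

include hi in
/-- **Uniform regularity and bounded cohomology.** -/
theorem main [Infinite k] (hH : CohB1.IsAmple H) : ∀ (d : ℕ) (G : X.Modules), Coh.IsCoh G →
    (∀ x ∈ CohB1.support G, Main.pd k x < d) →
    (∃ m : ℤ, ∀ L : X.Modules, InBand H a L → Pic13.IsMRegular k i (CohB1.tensorMod L G) m) ∧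
      ∀ q, Bdd k H a q G := by
  haveI := Curves.GlobalSections.isNoetherian_of_proper k X
  have hN := UnifVan.dim_le i hi
  intro d
  induction d with
  | zero =>
    intro G hG hsupp
    have hz : IsZero G := Modules.Support.support_eq_empty_iff.1
      (Set.eq_empty_iff_forall_notMem.2 fun x hx => Nat.not_lt_zero _ (hsupp x hx))
    refine ⟨⟨0, fun L hL q _ => ?_⟩, fun q => bdd_of_isZero q hz⟩
    refine PosLin.CohBound.subsingleton_HH_isZero (k := k) ?_ q
    show IsZero (CohB1.tensorMod (CohB1.tensorMod L G) (twX i ((0 : ℤ) - (q : ℤ))))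
    rw [← Modules.Support.support_eq_empty_iff,
      Modules.Support.support_congr (comm (CohB1.tensorMod L G) (twX i ((0 : ℤ) - (q : ℤ)))),
      Twist.support_twist (isInvertible_twX i ((0 : ℤ) - (q : ℤ))),
      Twist.support_twist hL.1, Modules.Support.support_eq_empty_iff]
    exact hz
  | succ d ih =>
    -- the hyperplane section of a module of dimension at most `d`
    have cut : ∀ G : X.Modules, Coh.IsCoh G → (∀ x ∈ CohB1.support G, Main.pd k x < d + 1) →
        ∃ S : ShortComplex X.Modules, S.ShortExact ∧ S.X₂ = G ∧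
          Nonempty (S.X₁ ≅ CohB1.tensorMod G (twX i (-1))) ∧ Coh.IsCoh S.X₃ ∧
          ∀ x ∈ CohB1.support S.X₃, Main.pd k x < d := by
      intro G hG hsupp
      have := hG.2
      have hdimG : topologicalKrullDim (CohB1.support G) ≤ d :=
        UnifVan.dim_le_of_pd (k := k) (Modules.Support.isClosed_support G) fun x hx =>
          Nat.lt_succ_iff.1 (hsupp x hx)
      let G₁ := CohB1.tensorMod G (twX i (-1))
      have hG₁ : Coh.IsCoh G₁ :=
        PosLin.SectionBound.isCoh_twist_right hG (isInvertible_twX i (-1))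
      let Z : Set X := {x | Curv2.IsAssPoint G₁ x} ∪
        Additive.topPts (CohB1.support G) d
      have hZ : Z.Finite := (UnifReg.Hyperplane.finite_assPoints hG₁).union
        (Additive.finite_topPts (Modules.Support.isClosed_support G) hdimG)
      obtain ⟨s, hs⟩ := UnifReg.Hyperplane.exists_section (n := n) (k := k) (hZ.image i)
      let σ : Coh.structureModule X ⟶ twX i 1 :=
        (PicLoc.pullbackStructureIso i).symm.hom ≫ (Scheme.Modules.pullback i).map s
      have hσ : ∀ x ∈ Z, x ∈ CohB1.genLocus (twX i 1) σ := fun x hx => by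
        rw [Ample.GenLocus.genLocus_pullback i (ProjCoh.Coherent.isInvertible_tw 1) s
          (PicLoc.pullbackStructureIso i).symm]
        exact hs _ (Set.mem_image_of_mem _ hx)
      let eG : CohB1.tensorMod G₁ (twX i 1) ≅ G :=
        assoc _ _ _ ≪≫ tensorIso (Iso.refl G) (twXAdd i (-1) 1 0 (by norm_num) ≪≫ twXZero i) ≪≫
          rightUnit G
      let φ₀ : G₁ ⟶ CohB1.tensorMod G₁ (twX i 1) := (UnifReg.Hyperplane.mulS σ).app G₁
      haveI : Mono φ₀ := UnifReg.Hyperplane.mono_mulS σ hG₁.1 fun x hx => hσ x (Or.inl hx)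
      let φ : G₁ ⟶ G := φ₀ ≫ eG.hom
      haveI : Mono φ := mono_comp _ _
      refine ⟨ShortComplex.mk φ (cokernel.π φ) (cokernel.condition φ),
        Devissage.Basic.exists_ses_mono φ, rfl, ⟨Iso.refl _⟩,
        CohBasics.Closure.isCoh_cokernel φ hG₁.1 hG, fun x hx => ?_⟩
      have hxG : x ∈ CohB1.support G := Modules.Support.support_subset_of_epi (cokernel.π φ) hx
      have hx₀ : x ∈ CohB1.support (cokernel φ₀) :=
        Modules.Support.support_congr (cokernelCompIsIso φ₀ eG.hom) ▸ hx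
      obtain ⟨hgen, -⟩ := UnifReg.Hyperplane.support_coker σ G₁ hx₀
      refine lt_of_le_of_ne (Nat.lt_succ_iff.1 (hsupp x hxG)) fun he => hgen ?_
      exact hσ x (Or.inr ⟨hxG, (dim_closure (k := k) x).trans (congrArg Nat.cast he)⟩)
    -- vanishing at one twist and regularity
    have step : ∀ G : X.Modules, Coh.IsCoh G → (∀ x ∈ CohB1.support G, Main.pd k x < d + 1) →
        ∃ m₁ : ℤ, ∀ L : X.Modules, InBand H a L →
          (∀ q, 2 ≤ q → Subsingleton (Coh.HH X
              (CohB1.tensorMod (CohB1.tensorMod L G) (twX i (m₁ - 1))) q)) ∧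
            Pic13.IsMRegular k i (CohB1.tensorMod L G) (m₁ + Module.finrank k
              (Coh.HH X (CohB1.tensorMod (CohB1.tensorMod L G) (twX i (m₁ - 1))) 1)) := by
      intro G hG hsupp
      obtain ⟨S, hS, hS₂, ⟨e⟩, hD, hDsupp⟩ := cut G hG hsupp
      subst hS₂
      obtain ⟨⟨m₁, hm₁⟩, -⟩ := ih S.X₃ hD hDsupp
      exact ⟨m₁, fun L hL => UnifVan.hyperplane i hi (Twist.twistSeq_shortExact hL.1 hS)
        (Twist.isCoh_twist hL.1 hG) (tensorIso (Iso.refl L) e ≪≫ (assoc _ _ _).symm)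
        (Twist.isCoh_twist hL.1 hD) (hm₁ L hL)⟩
    have hsupp_tw : ∀ (G : X.Modules) (s : ℤ),
        CohB1.support (CohB1.tensorMod (twX i s) G) = CohB1.support G := fun G s =>
      Twist.support_twist (isInvertible_twX i s) G
    -- degrees at least two
    have high : ∀ G : X.Modules, Coh.IsCoh G → (∀ x ∈ CohB1.support G, Main.pd k x < d + 1) →
        ∀ q, 2 ≤ q → Bdd k H a q G := by
      intro G hG hsupp q hq
      obtain ⟨m₁, hm₁⟩ := step G hG hsupp
      obtain ⟨S, hS, hS₂, ⟨e⟩, hD, hDsupp⟩ := cut G hG hsupp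
      subst hS₂
      let T : ℤ → Prop := fun s => Bdd k H a q (CohB1.tensorMod (twX i s) S.X₂)
      have hbase : T (m₁ - 1) := ⟨0, fun L hL => by
        haveI := (hm₁ L hL).1 q hq
        rw [hd_congr (tensorIso (Iso.refl L) (comm _ _) ≪≫ (assoc _ _ _).symm), hd,
          Module.finrank_zero_of_subsingleton]⟩
      have hDs : ∀ (s : ℤ) (r : ℕ), Bdd k H a r (CohB1.tensorMod (twX i s) S.X₃) := fun s r =>
        (ih _ (Twist.isCoh_twist (isInvertible_twX i s) hD) fun x hx =>
          hDsupp x (hsupp_tw S.X₃ s ▸ hx)).2 r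
      have h1' : Coh.IsCoh S.X₁ := CohBasics.Closure.isCoh_of_iso e.symm
        (PosLin.SectionBound.isCoh_twist_right hG (isInvertible_twX i (-1)))
      have e1 : ∀ s : ℤ, CohB1.tensorMod (twX i s) S.X₁ ≅ CohB1.tensorMod (twX i (s - 1)) S.X₂ :=
        fun s => tensorIso (Iso.refl _) (e ≪≫ comm _ _) ≪≫ (assoc _ _ _).symm ≪≫
          tensorIso (twXAdd i s (-1) (s - 1) (by ring)) (Iso.refl _)
      have up : ∀ s : ℤ, T s → T (s + 1) := fun s hs => by
        have hI := isInvertible_twX i (s + 1)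
        exact bdd_mid (Twist.twistSeq_shortExact hI hS) (Twist.isCoh_twist hI h1')
          (Twist.isCoh_twist hI hG) (Twist.isCoh_twist hI hD)
          (hs.of_iso ((e1 (s + 1)) ≪≫ eqToIso (by rw [add_sub_cancel_right])).symm) (hDs _ q)
      have down : ∀ s : ℤ, T s → T (s - 1) := fun s hs => by
        have hI := isInvertible_twX i s
        exact (bdd_left (Twist.twistSeq_shortExact hI hS) (Twist.isCoh_twist hI h1')
          (Twist.isCoh_twist hI hG) (Twist.isCoh_twist hI hD) hs (hDs _ (q - 1))).of_iso (e1 s)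
      have h0 : T 0 :=
        Int.inductionOn' (motive := T) 0 (m₁ - 1) hbase (fun s _ h => up s h) (fun s _ h => down s h)
      exact h0.of_iso (tensorIso (twXZero i) (Iso.refl _) ≪≫ leftUnit _)
    -- all degrees
    have all : ∀ G : X.Modules, Coh.IsCoh G → (∀ x ∈ CohB1.support G, Main.pd k x < d + 1) →
        ∀ q, Bdd k H a q G := by
      intro G hG hsupp
      have := hG.2
      let T : Closeds X := ⟨CohB1.support G, Modules.Support.isClosed_support G⟩
      refine ProperFin.Devissage.devissage (fun G => ∀ q, Bdd k H a q G) T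
        ⟨fun M hM q => bdd_of_isZero q hM, fun S hS h₁ h₂ h₃ =>
          ⟨fun b₁ b₃ q => bdd_mid hS h₁.1 h₂.1 h₃.1 (b₁ q) (b₃ q),
            fun b₂ b₃ q => bdd_left hS h₁.1 h₂.1 h₃.1 (b₂ q) (b₃ _),
            fun b₁ b₂ q => bdd_right hS h₁.1 h₂.1 h₃.1 (b₂ q) (b₁ _)⟩⟩
        (fun y hy => ?_) G ⟨hG, subset_rfl⟩
      have hcl : ∀ x ∈ closure ({y} : Set X), Main.pd k x < d + 1 := fun x hx =>
        hsupp x (closure_minimal (Set.singleton_subset_iff.2 hy) T.isClosed hx)
      have hcs := Devissage.Closure.support_closureStructureSheaf y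
      have hcO : Devissage.Basic.CohIn (closure {y}) (Cyc.closureStructureSheaf y) :=
        ⟨Devissage.Closure.isCoh_closureStructureSheaf y, hcs⟩
      have hb0 : ∀ F : X.Modules, Devissage.Basic.CohIn (closure {y}) F → Bdd k H a 1 F →
          ∀ q, Bdd k H a q F := by
        intro F hF hF1 q
        obtain hq | hq | hq : q = 0 ∨ q = 1 ∨ 2 ≤ q := by omega
        · subst hq; exact Band.exists_bound k hN H a hH.1 hF.1
        · subst hq; exact hF1
        · exact high F hF.1 (fun x hx => hcl x (hF.2 hx)) q hq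
      by_cases hlt : Main.pd k y < d
      · refine ⟨_, hcO, Devissage.Closure.length_closureStructureSheaf y, (ih _ hcO.1 fun x hx => ?_).2⟩
        exact UnifVan.pd_lt_of_dim_lt (k := k) isClosed_closure
          (by rw [dim_closure (k := k) y]; exact_mod_cast hlt) (hcs hx)
      by_cases h2 : Main.pd k y ≤ 2
      · refine ⟨_, hcO, Devissage.Closure.length_closureStructureSheaf y, hb0 _ hcO
          (bdd_one_surface hN hH h2 (Nat.succ_pos n) fun q hq => ?_)⟩
        obtain hq' | hq' : q = 0 ∨ 2 ≤ q := by omega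
        · subst hq'; exact Band.exists_bound k hN H a hH.1 hcO.1
        · exact high _ hcO.1 (fun x hx => hcl x (hcs hx)) q hq'
      · obtain ⟨e, he⟩ : ∃ e, Main.pd k y = e + 1 := ⟨Main.pd k y - 1, by omega⟩
        obtain ⟨F, hF, hFl, hF1⟩ := exists_gen (H := H) (a := a) i hi he
          (high _ hcO.1 (fun x hx => hcl x (hcs hx)) e (by omega))
        exact ⟨F, hF, hFl, hb0 F hF hF1⟩
    intro G hG hsupp
    refine ⟨?_, all G hG hsupp⟩
    obtain ⟨m₁, hm₁⟩ := step G hG hsupp
    obtain ⟨K, hK⟩ := all (CohB1.tensorMod (twX i (m₁ - 1)) G)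
      (Twist.isCoh_twist (isInvertible_twX i _) hG) (fun x hx => hsupp x (hsupp_tw G _ ▸ hx)) 1
    refine ⟨m₁ + (K : ℤ), fun L hL q hq => ?_⟩
    refine UnifVan.subsingleton_of_reg i hi (Twist.isCoh_twist hL.1 hG) (hm₁ L hL).2 hq ?_
    have h1 := hK L hL
    rw [hd_congr (tensorIso (Iso.refl L) (comm _ _) ≪≫ (assoc _ _ _).symm), hd] at h1
    omega

end Groth.Agent.Lib.PicBdd.BandReg
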