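import Groth.Agent.Lib.PicBdd.FlatPieces
import Groth.Agent.Lib.Nakai.UnifVan
import Groth.Agent.Lib.Exchange.FlatTwist
import Groth.Agent.Lib.ExchangeFP29.Main
import Groth.Agent.Lib.IntTheory.ChiConst
import Groth.Agent.Lib.ShStab.HilbPoly
import Groth.Agent.Lib.Curves.BaseChange

/-!
# Flat families over integral bases: constant Euler characteristics, uniform regularity
-/

set_option autoImplicit false
set_option linter.style.haveILetI false
universe u

open CategoryTheory CategoryTheory.Limits AlgebraicGeometry TopologicalSpace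

namespace Groth.Agent.Lib.PicBdd.Family

open Groth.Agent Groth.Agent.Lib
open Groth.Agent.Lib.PicBdd.Strata (sliceAt_fst sliceAt_snd isPullback_sliceAt)
open Groth.Agent.Lib.TensorMod.Basic (comm assoc tensorIso leftUnit rightUnit)
open Groth.Agent.Lib.TensorMod.Pullback (pullbackTensorIso)

variable {k : Type u} [Field k] {X : Scheme.{u}} [X.Over (Spec (CommRingCat.of k))]
  [IsProper (X ↘ Spec (CommRingCat.of k))]

omit [IsProper (X ↘ Spec (CommRingCat.of k))] in
/-- Fibres of twists by modules from `X`. -/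
theorem nonempty_fibre_twist {T : Scheme.{u}} (q : T ⟶ Spec (CommRingCat.of k))
    (M : (Pic13.prodK k X q).Modules) (W : X.Modules) (t : Spec (CommRingCat.of k) ⟶ T)
    (ht : t ≫ q = 𝟙 _) :
    Nonempty (Pic13.fibreMod k X q t ht
      (CohB1.tensorMod M ((Scheme.Modules.pullback (pullback.fst _ _)).obj W)) ≅
      CohB1.tensorMod (Pic13.fibreMod k X q t ht M) W) :=
  ⟨pullbackTensorIso (Pic13.sliceAt k X q t ht) _ _ ≪≫ tensorIso (Iso.refl _)
    ((Scheme.Modules.pullbackComp _ _).app W ≪≫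
      (Scheme.Modules.pullbackCongr (sliceAt_fst q t ht)).app W ≪≫
      (Scheme.Modules.pullbackId X).app W)⟩

/-- The Euler characteristics of the fibres of a flat family over an integral base are all equal. -/
theorem chi_eq_of_flat {T : Scheme.{u}} (q : T ⟶ Spec (CommRingCat.of k)) [IsIntegral T]
    [LocallyOfFiniteType q] {G : (Pic13.prodK k X q).Modules} (hG : Coh.IsCoh G)
    (hfl : FlatMod.IsFlatOver (pullback.snd (X ↘ Spec (CommRingCat.of k)) q) G)
    {d : ℕ} (hd : topologicalKrullDim X ≤ d) (t t₀ : Spec (CommRingCat.of k) ⟶ T)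
    (ht : t ≫ q = 𝟙 _) (ht₀ : t₀ ≫ q = 𝟙 _) :
    FGA.eulerCharLE k X (Pic13.fibreMod k X q t ht G) d =
      FGA.eulerCharLE k X (Pic13.fibreMod k X q t₀ ht₀ G) d := by
  haveI := Curves.GlobalSections.isNoetherian_of_proper k X
  let u := pullback.snd (X ↘ Spec (CommRingCat.of k)) q
  haveI : IsProper u := inferInstanceAs (IsProper (pullback.snd _ _))
  haveI : IsLocallyNoetherian T := LocallyOfFiniteType.isLocallyNoetherian q
  obtain ⟨e, he, hform⟩ := IntTheory.ChiConst.exists_euler_scheme u G hG hfl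
  have key : ∀ (s : Spec (CommRingCat.of k) ⟶ T) (hs : s ≫ q = 𝟙 _),
      FGA.eulerCharLE k X (Pic13.fibreMod k X q s hs G) d = e (s (IsLocalRing.closedPoint k)) :=
    fun s hs => by
      rw [← Snapper.Chi.euler_eq_eulerCharLE hd]
      exact hform k X (X ↘ Spec (CommRingCat.of k)) s (Pic13.sliceAt k X q s hs)
        (isPullback_sliceAt q s hs)
  rw [key t ht, key t₀ ht₀]
  exact he.apply_eq_of_preconnectedSpace _ _

/-- The fibre cohomology at a rational point. -/
theorem finrank_fibre {T : Scheme.{u}} (q : T ⟶ Spec (CommRingCat.of k))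
    {G : (Pic13.prodK k X q).Modules} (hG : Coh.IsCoh G) (t : Spec (CommRingCat.of k) ⟶ T)
    (ht : t ≫ q = 𝟙 _) (p : ℕ) :
    Module.finrank k (Coh.HH X (Pic13.fibreMod k X q t ht G) p) =
      CohIII.fiberRank (pullback.snd (X ↘ Spec (CommRingCat.of k)) q) G p
        (t (IsLocalRing.closedPoint k)) := by
  let u := pullback.snd (X ↘ Spec (CommRingCat.of k)) q
  haveI : IsProper u := inferInstanceAs (IsProper (pullback.snd _ _))
  let y := t (IsLocalRing.closedPoint k)
  let φ : T.residueField y ⟶ CommRingCat.of k :=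
    T.descResidueField (Scheme.stalkClosedPointTo t)
  have hφ : Spec.map φ ≫ T.fromSpecResidueField y = t :=
    Scheme.descResidueField_stalkClosedPointTo_fromSpecResidueField k T t
  letI : (u.fiber y).Over (Spec (CommRingCat.of (T.residueField y))) :=
    ⟨u.fiberToSpecResidueField y⟩
  letI : Algebra (T.residueField y) k := φ.hom.toAlgebra
  haveI : IsProper (u.fiber y ↘ Spec (CommRingCat.of (T.residueField y))) :=
    show IsProper (u.fiberToSpecResidueField y) from
      MorphismProperty.of_isPullback (IsPullback.of_hasPullback u (T.fromSpecResidueField y))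
        inferInstance
  haveI := Curves.GlobalSections.isNoetherian_of_proper (T.residueField y) (u.fiber y)
  let g : X ⟶ u.fiber y := pullback.lift (Pic13.sliceAt k X q t ht)
    ((X ↘ Spec (CommRingCat.of k)) ≫ Spec.map φ)
    (by rw [Category.assoc, hφ]; exact sliceAt_snd q t ht)
  have hP : IsPullback g (X ↘ Spec (CommRingCat.of k)) (u.fiber y ↘ Spec (CommRingCat.of (T.residueField y)))
      (Spec.map (CommRingCat.ofHom (algebraMap (T.residueField y) k))) := by
    refine IsPullback.of_right ?_ (pullback.lift_snd _ _ _)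
      (IsPullback.of_hasPullback u (T.fromSpecResidueField y))
    have e₁ : g ≫ u.fiberι y = Pic13.sliceAt k X q t ht := pullback.lift_fst _ _ _
    show IsPullback (g ≫ u.fiberι y) _ u (Spec.map φ ≫ T.fromSpecResidueField y)
    rw [e₁, hφ]
    exact isPullback_sliceAt q t ht
  haveI : (CohIII.fiberMod u G y).IsQuasicoherent := by
    haveI := hG.1
    exact QCoh.Pullback.isQCoh_pullback (u.fiberι y) G
  have h := Curves.BaseChange.finrank_HH hP (CohIII.fiberMod u G y) p
  exact (Curves.LES.isoK k ((Scheme.Modules.pullbackComp g (u.fiberι y)).app G ≪≫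
    (Scheme.Modules.pullbackCongr (show g ≫ u.fiberι y = Pic13.sliceAt k X q t ht from
      pullback.lift_fst _ _ _)).app G) p).finrank_eq.symm.trans h

section Proj

variable {n : ℕ} (j : X ⟶ CohB1.ProjSpace n k) [IsClosedImmersion j]
  (hj : j ≫ CohB1.ProjSpace.toSpec n k = X ↘ Spec (CommRingCat.of k))

omit [X.Over (Spec (CommRingCat.of k))] [IsProper (X ↘ Spec (CommRingCat.of k))] [IsClosedImmersion j] in
theorem twistOn_eq (F : X.Modules) (d : ℤ) :
    Pic13.twistOn k j F d = CohB1.tensorMod F (Nakai.UnifVan.twX j d) := rfl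

include hj

omit [IsProper (X ↘ Spec (CommRingCat.of k))] in
/-- Every coherent module is regular for some integer. -/
theorem exists_reg {F : X.Modules} (hF : Coh.IsCoh F) : ∃ m : ℕ, Pic13.IsMRegular k j F (m : ℤ) := by
  haveI := ProperFin.Projective.isNoetherian_projSpace (R := k) (n := n)
  have hc : Coh.IsCoh ((Coh.push j).obj F) := Cyc.Dev.SchemeEquiv.isCoh_push j hF
  obtain ⟨d₀, hd₀⟩ := ProjCoh.Coherent.exists_forall_subsingleton _ hc
  refine ⟨d₀ + (n + 1), fun q hq => ?_⟩
  obtain ⟨E⟩ := Nakai.UnifVan.nonempty_hh j hj hF (((d₀ + (n + 1) : ℕ) : ℤ) - q) q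
  have h : Subsingleton (Coh.HH (CohB1.ProjSpace n k) (CohB1.tensorMod ((Coh.push j).obj F)
      (ProjCoh.Coherent.tw n k (((d₀ + (n + 1) : ℕ) : ℤ) - q))) q) := by
    rcases le_or_gt q (n + 1) with hqn | hqn
    · obtain ⟨p, rfl⟩ : ∃ p, q = p + 1 := ⟨q - 1, by omega⟩
      exact hd₀ _ (by push_cast; omega) p
    · haveI := (ProjCoh.Coherent.isCoh_tensorMod hc
        (ProjCoh.Coherent.isCoh_tw (n := n) (R := k) (((d₀ + (n + 1) : ℕ) : ℤ) - q))).1
      exact ProjCoh.Twist.subsingleton_HH_of_lt _ (by omega)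
  exact E.symm.injective.subsingleton

omit [IsProper (X ↘ Spec (CommRingCat.of k))] in
theorem reg_mono {F : X.Modules} (hF : Coh.IsCoh F) {m m' : ℤ} (h : m ≤ m')
    (hr : Pic13.IsMRegular k j F m) : Pic13.IsMRegular k j F m' := fun _ hq =>
  Nakai.UnifVan.subsingleton_of_reg j hj hF hr hq (by omega)

omit [IsProper (X ↘ Spec (CommRingCat.of k))] in
/-- The Hilbert polynomial at every integer. -/
theorem exists_poly {F : X.Modules} (hF : Coh.IsCoh F) :
    ∃ φ : Polynomial ℚ, ∀ d : ℤ,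
      (FGA.eulerCharLE k X (Pic13.twistOn k j F d) n : ℚ) = φ.eval (d : ℚ) := by
  haveI := ProperFin.Projective.isNoetherian_projSpace (R := k) (n := n)
  obtain ⟨Q, hQ⟩ := ShStab.HilbPoly.exists_chiPoly (Cyc.Dev.SchemeEquiv.isCoh_push j hF)
  refine ⟨Q, fun d => (hQ d).symm ▸ ?_⟩
  unfold FGA.eulerCharLE
  refine congrArg (fun z : ℤ => (z : ℚ)) (Finset.sum_congr rfl fun q _ => ?_)
  obtain ⟨E⟩ := Nakai.UnifVan.nonempty_hh j hj hF d q
  rw [twistOn_eq, ← E.finrank_eq]

variable [IsAlgClosed k]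

/-- Uniform regularity over one piece. -/
theorem exists_reg_piece (p : FlatPieces.Piece k X) :
    ∃ m : ℕ, ∀ (t : Spec (CommRingCat.of k) ⟶ p.T) (ht : t ≫ p.q = 𝟙 _),
      Pic13.IsMRegular k j (Pic13.fibreMod k X p.q t ht p.M) (m : ℤ) := by
  haveI := p.lft
  haveI := p.qc
  haveI : IsLocallyNoetherian p.T := LocallyOfFiniteType.isLocallyNoetherian p.q
  haveI : CompactSpace p.T := QuasiCompact.compactSpace_of_compactSpace p.q
  haveI : JacobsonSpace p.T := LocallyOfFiniteType.jacobsonSpace p.q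
  let u := pullback.snd (X ↘ Spec (CommRingCat.of k)) p.q
  haveI : IsProper u := inferInstanceAs (IsProper (pullback.snd _ _))
  haveI : LocallyOfFinitePresentation u := H46.FibreDimNhd.locallyOfFinitePresentation u
  haveI : IsLocallyNoetherian (Pic13.prodK k X p.q) := LocallyOfFiniteType.isLocallyNoetherian u
  haveI := Curves.GlobalSections.isNoetherian_of_proper k X
  let G : ℤ → (Pic13.prodK k X p.q).Modules := fun d =>
    CohB1.tensorMod p.M ((Scheme.Modules.pullback (pullback.fst _ _)).obj (Nakai.UnifVan.twX j d))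
  have hW : ∀ d, PicF.IsInvertible ((Scheme.Modules.pullback
      (pullback.fst (X ↘ Spec (CommRingCat.of k)) p.q)).obj (Nakai.UnifVan.twX j d)) := fun d =>
    PicLoc.isInvertible_pullback _ (Nakai.UnifVan.isInvertible_twX j d)
  have hG : ∀ d, Coh.IsCoh (G d) := fun d =>
    ProjCoh.Coherent.isCoh_tensorMod p.coh (Ample.GG.isCoh_of_isInvertible (hW d))
  let U : ℕ → Set p.T := fun m =>
    {y | ∀ q ∈ Finset.Icc 1 (n + 1), CohIII.fiberRank u (G ((m : ℤ) - (q : ℕ))) q y = 0}
  have hU : ∀ m, IsOpen (U m) := fun m => by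
    have : U m = ⋂ q ∈ Finset.Icc 1 (n + 1),
        {y : p.T | CohIII.fiberRank u (G ((m : ℤ) - (q : ℕ))) q y = 0} := by
      ext y
      simp [U]
    rw [this]
    refine isOpen_biInter_finset fun q _ => ?_
    haveI := (hG ((m : ℤ) - (q : ℕ))).1
    exact ExchangeFP29.Main.isOpen_fiberRank_eq_zero u _ (ZarCoh.FP.isFP_of_isCoh _ (hG _))
      (Exchange.FlatTwist.isFlatOver_twist u (hW _) p.flat) q
  have hreg : ∀ (m : ℕ) (t : Spec (CommRingCat.of k) ⟶ p.T) (ht : t ≫ p.q = 𝟙 _),
      t (IsLocalRing.closedPoint k) ∈ U m ↔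
        Pic13.IsMRegular k j (Pic13.fibreMod k X p.q t ht p.M) (m : ℤ) := by
    intro m t ht
    have hFt : Coh.IsCoh (Pic13.fibreMod k X p.q t ht p.M) := Cyc.FP.Stalk.isCoh_pullback _ p.coh
    have key : ∀ q : ℕ, CohIII.fiberRank u (G ((m : ℤ) - q)) q (t (IsLocalRing.closedPoint k)) = 0 ↔
        Subsingleton (Coh.HH X (Pic13.twistOn k j (Pic13.fibreMod k X p.q t ht p.M) ((m : ℤ) - q)) q) := by
      intro q
      obtain ⟨e⟩ := nonempty_fibre_twist p.q p.M (Nakai.UnifVan.twX j ((m : ℤ) - q)) t ht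
      rw [← finrank_fibre p.q (hG _) t ht q, (Curves.LES.isoK k e q).finrank_eq]
      haveI := Snapper.Finite.cohFinite k X _ (ProjCoh.Coherent.isCoh_tensorMod hFt
        (Ample.GG.isCoh_of_isInvertible (Nakai.UnifVan.isInvertible_twX j ((m : ℤ) - q)))) q
      exact Module.finrank_zero_iff
    constructor
    · intro h q hq
      rcases le_or_gt q (n + 1) with hqn | hqn
      · exact (key q).1 (h q (Finset.mem_Icc.2 ⟨hq, hqn⟩))
      · haveI := ProperFin.Projective.isNoetherian_projSpace (R := k) (n := n)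
        obtain ⟨E⟩ := Nakai.UnifVan.nonempty_hh j hj hFt ((m : ℤ) - q) q
        haveI := (ProjCoh.Coherent.isCoh_tensorMod (Cyc.Dev.SchemeEquiv.isCoh_push j hFt)
          (ProjCoh.Coherent.isCoh_tw (n := n) (R := k) ((m : ℤ) - q))).1
        exact @Function.Injective.subsingleton _ _ _ E.symm.injective
          (ProjCoh.Twist.subsingleton_HH_of_lt _ (by omega))
    · exact fun h q hq => (key q).2 (h q (Finset.mem_Icc.1 hq).1)
  have hcl : ∀ x : p.T, IsClosed ({x} : Set p.T) → x ∈ ⋃ m, U m := by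
    intro x hx
    let t := pointOfClosedPoint p.q x hx
    have ht : t ≫ p.q = 𝟙 _ := pointOfClosedPoint_comp p.q x hx
    obtain ⟨m, hm⟩ := exists_reg j hj (F := Pic13.fibreMod k X p.q t ht p.M)
      (Cyc.FP.Stalk.isCoh_pullback _ p.coh)
    refine Set.mem_iUnion.2 ⟨m, ?_⟩
    have h := (hreg m t ht).2 hm
    have e : t (IsLocalRing.closedPoint k) = x := pointOfClosedPoint_apply p.q x hx _
    rwa [e] at h
  have hall : (Set.univ : Set p.T) ⊆ ⋃ m, U m := by
    intro x _
    by_contra hx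
    obtain ⟨y, hy, hyc⟩ := nonempty_inter_closedPoints ⟨x, hx⟩
      (isOpen_iUnion hU).isClosed_compl.isLocallyClosed
    exact hy (hcl y hyc)
  obtain ⟨s, hs⟩ := isCompact_univ.elim_finite_subcover U hU hall
  refine ⟨s.sup id, fun t ht => ?_⟩
  obtain ⟨m, hms, hm⟩ := Set.mem_iUnion₂.1 (hs (Set.mem_univ (t (IsLocalRing.closedPoint k))))
  exact reg_mono j hj (Cyc.FP.Stalk.isCoh_pullback _ p.coh)
    (by exact_mod_cast Finset.le_sup (f := id) hms) ((hreg m t ht).1 hm)

omit [IsAlgClosed k] in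
/-- One Hilbert polynomial for a piece. -/
theorem exists_poly_piece (p : FlatPieces.Piece k X) (hd : topologicalKrullDim X ≤ n) :
    ∃ φ : Polynomial ℚ, ∀ (t : Spec (CommRingCat.of k) ⟶ p.T) (ht : t ≫ p.q = 𝟙 _) (d : ℤ),
      (FGA.eulerCharLE k X (Pic13.twistOn k j (Pic13.fibreMod k X p.q t ht p.M) d) n : ℚ) =
        φ.eval (d : ℚ) := by
  haveI := p.integral
  haveI := p.lft
  haveI : IsLocallyNoetherian (Pic13.prodK k X p.q) :=
    LocallyOfFiniteType.isLocallyNoetherian (pullback.snd (X ↘ Spec (CommRingCat.of k)) p.q ≫ p.q)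
  by_cases h : ∃ t₀ : Spec (CommRingCat.of k) ⟶ p.T, t₀ ≫ p.q = 𝟙 _
  · obtain ⟨t₀, ht₀⟩ := h
    obtain ⟨φ, hφ⟩ := exists_poly j hj (F := Pic13.fibreMod k X p.q t₀ ht₀ p.M)
      (Cyc.FP.Stalk.isCoh_pullback _ p.coh)
    refine ⟨φ, fun t ht d => ?_⟩
    rw [← hφ d]
    have hW := PicLoc.isInvertible_pullback (pullback.fst (X ↘ Spec (CommRingCat.of k)) p.q)
      (Nakai.UnifVan.isInvertible_twX j d)
    obtain ⟨e⟩ := nonempty_fibre_twist p.q p.M (Nakai.UnifVan.twX j d) t ht
    obtain ⟨e₀⟩ := nonempty_fibre_twist p.q p.M (Nakai.UnifVan.twX j d) t₀ ht₀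
    rw [twistOn_eq, twistOn_eq, ← Snapper.Chi.eulerCharLE_of_iso (k := k) e,
      ← Snapper.Chi.eulerCharLE_of_iso (k := k) e₀,
      chi_eq_of_flat p.q (ProjCoh.Coherent.isCoh_tensorMod p.coh (Ample.GG.isCoh_of_isInvertible hW))
        (Exchange.FlatTwist.isFlatOver_twist _ hW p.flat) hd t t₀ ht ht₀]
  · exact ⟨0, fun t ht => absurd ⟨t, ht⟩ h⟩

/-- Bounded families are uniformly regular with finitely many Hilbert polynomials. -/
theorem exists_reg_and_polys {P : X.Modules → Prop} (hb : Pic13.IsBounded k X P) :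
    (∃ m : ℤ, ∀ F, P F → Pic13.IsMRegular k j F m) ∧
      ∃ s : Finset (Polynomial ℚ), ∀ F, P F → ∃ φ ∈ s,
        ∀ d : ℤ, (FGA.eulerCharLE k X (Pic13.twistOn k j F d) n : ℚ) = φ.eval (d : ℚ) := by
  classical
  haveI := Curves.GlobalSections.isNoetherian_of_proper k X
  have hd : topologicalKrullDim X ≤ n :=
    (j.isClosedEmbedding.isInducing.topologicalKrullDim_le).trans
      (ProjSpace.Dim.topologicalKrullDim_projSpace_of_field n k).le
  obtain ⟨T, q, h₁, h₂, F, hF, hP⟩ := hb
  haveI := h₁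
  haveI := h₂
  obtain ⟨ps, hps⟩ := FlatPieces.exists_pieces q F hF
  choose mP hmP using exists_reg_piece j hj
  choose φP hφP using fun p => exists_poly_piece j hj p hd
  have hcov : ∀ G, P G → FlatPieces.Covers k X ps G := fun G hG => by
    obtain ⟨t, ht, ⟨e⟩⟩ := hP G hG
    exact FlatPieces.Covers.of_iso e (hps t ht)
  refine ⟨⟨((ps.toFinset.sup mP : ℕ) : ℤ), fun G hG i hi => ?_⟩,
    ⟨ps.toFinset.image φP, fun G hG => ?_⟩⟩
  · obtain ⟨p, hp, t, ht, ⟨e⟩⟩ := hcov G hG
    have h := reg_mono j hj (m' := ((ps.toFinset.sup mP : ℕ) : ℤ)) (Cyc.FP.Stalk.isCoh_pullback _ p.coh)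
      (by exact_mod_cast Finset.le_sup (f := mP) (List.mem_toFinset.2 hp)) (hmP p t ht) i hi
    exact @Function.Injective.subsingleton _ _ _
      (Curves.LES.isoK k (tensorIso e (Iso.refl _)) i).symm.injective h
  · obtain ⟨p, hp, t, ht, ⟨e⟩⟩ := hcov G hG
    refine ⟨φP p, Finset.mem_image_of_mem _ (List.mem_toFinset.2 hp), fun d => ?_⟩
    rw [← hφP p t ht d, twistOn_eq, twistOn_eq,
      Snapper.Chi.eulerCharLE_of_iso (k := k) (tensorIso e (Iso.refl _))]

end Proj

end Groth.Agent.Lib.PicBdd.Family
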