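import Groth.Agent.Lib.BddFam.Presented
import Groth.Agent.Lib.DecSh.Family
import Groth.Agent.Lib.BddFam.Curve
import Groth.Agent.Lib.ProjKoszul.Regularity
import Groth.Agent.Lib.ProperFin.Projective
import Groth.Agent.Lib.Cyc.Dev.SchemeEquiv
import Groth.Agent.Lib.BddFam.Regular
import Groth.Agent.Lib.Nakai.UnifAbs
import Mathlib.Data.Finite.Prod

/-!
# Numerically trivial modules on a projective scheme over a finite field are torsion
-/

set_option autoImplicit false
set_option linter.style.haveILetI false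
universe u

open CategoryTheory CategoryTheory.Limits AlgebraicGeometry

namespace Groth.Agent.Lib.PicBdd.FiniteField

open Groth.Agent Groth.Agent.Lib TensorMod.Basic ProjCoh.Coherent BddFam BddFam.Regular
open Groth.Agent.Lib.TensorMod.Invertible (isInvertible_tensorPow)

section Proj

variable {n : ℕ} {k : Type u} [Field k]

/-- The regular sheaves with at most `N` sections at the level of regularity have presentations of a
fixed shape. -/
theorem exists_presentation (m : ℤ) (N : ℕ) :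
    ∃ (N' : ℕ) (B C : (CohB1.ProjSpace n k).Modules), Coh.IsCoh B ∧
      ∀ G : (CohB1.ProjSpace n k).Modules, Coh.IsCoh G ∧ ProjKoszul.Regularity.Reg G m ∧
        Curves.Euler.hdim k (CohB1.ProjSpace n k) (CohB1.tensorMod G (tw n k m)) 0 ≤ N →
        ∃ ψ : FlatMod.freeMod (CohB1.ProjSpace n k) N' ⟶ B,
          Nonempty (CohB1.tensorMod (cokernel ψ) C ≅ G) := by
  haveI : IsProper (CohB1.ProjSpace n k ↘ Spec (CommRingCat.of k)) :=
    ProjSpace.Basic.isProper_toSpec n k
  haveI := Curves.GlobalSections.isNoetherian_of_proper k (CohB1.ProjSpace n k)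
  let E := FlatMod.freeMod (CohB1.ProjSpace n k) N
  have hE : Coh.IsCoh E := Perfect.Coherent.isCoh_freeMod _ N
  let T' : (CohB1.ProjSpace n k).Modules ⥤ (CohB1.ProjSpace n k).Modules := tensorBy (tw n k 1)
  haveI h2 := CurveBundle.Twist.isEquivalence (isInvertible_tw (n := n) (R := k) 1)
  haveI : T'.IsEquivalence := h2
  let B := T'.obj E
  have hBc : Coh.IsCoh B := CurveBundle.Twist.isCoh (isInvertible_tw 1) hE
  set N' := Curves.Euler.hdim k (CohB1.ProjSpace n k) B 0
  let Ci := CohB1.tensorMod (tw n k m) (tw n k 1)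
  have hCi : PicF.IsInvertible Ci :=
    TensorMod.Invertible.isInvertible_tensorMod (isInvertible_tw m) (isInvertible_tw 1)
  refine ⟨N', B, TensorMod.Dual.dual Ci, hBc, fun G ⟨hG, hreg, hN⟩ => ?_⟩
  set F := CohB1.tensorMod G (tw n k m) with hFdef
  have hF : Coh.IsCoh F := isCoh_tensorMod hG (isCoh_tw m)
  have hgg := ProjKoszul.Regularity.isGloballyGenerated_of_le hG hreg le_rfl
  obtain ⟨p, hp⟩ := BddFam.Curve.exists_free_surj k hF hN
  have hpe : Epi p := (Modules.StalkModule.epi_iff_stalkMapₗ_surjective p).mpr fun x => by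
    rw [← LinearMap.range_eq_top, eq_top_iff]
    refine (H34.GlobGen.gl_eq_top_of_gg hgg x).ge.trans ?_
    rw [H34.GlobGen.Gl, Submodule.span_le]
    rintro _ ⟨mm, rfl⟩
    obtain ⟨y, rfl⟩ := hp mm
    exact ⟨_, Modules.StalkModule.stalkMapₗ_germ p (U := ⊤) trivial y⟩
  have hK := CohBasics.Closure.isCoh_kernel p hE hF.1
  let S : ShortComplex (CohB1.ProjSpace n k).Modules :=
    ShortComplex.mk (kernel.ι p) p (kernel.condition p)
  have hS : S.ShortExact := { exact := ShortComplex.exact_kernel p }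
  have hKreg : ProjKoszul.Regularity.Reg (kernel p) 1 := by
    intro q hq
    obtain ⟨q', rfl⟩ : ∃ q', q = q' + 1 := ⟨q - 1, by omega⟩
    by_cases hbig : n < q' + 1
    · have := (isCoh_tensorMod hK (isCoh_tw (n := n) (R := k) ((1 : ℤ) - ((q' + 1 : ℕ) : ℤ)))).1
      exact ProjCoh.Twist.subsingleton_HH_of_lt _ hbig
    rcases Nat.eq_zero_or_pos q' with rfl | hq'
    · have h0 : Subsingleton (Coh.HH (CohB1.ProjSpace n k) E 1) :=
        ProjKoszul.Chase.subsingleton_of_iso k
          (tensorIso (Iso.refl E) ProjCoh.Coherent.twZero ≪≫ rightUnit E)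
          (free_vanish N (d := 0) (by omega) one_ne_zero)
      exact ProjKoszul.Chase.subsingleton_of_iso k
        ((rightUnit (kernel p)).symm ≪≫ tensorIso (Iso.refl _) ProjCoh.Coherent.twZero.symm ≪≫
          tensorIso (Iso.refl _) (eqToIso (congrArg (tw n k) (by norm_num))))
        (H34.HOne.h1_of_surjective hS h0 hp)
    · set d : ℤ := (1 : ℤ) - ((q' + 1 : ℕ) : ℤ) with hd
      have hS' := shortExact_tw hS d
      have h2' : Subsingleton (Coh.HH (CohB1.ProjSpace n k) (CohB1.tensorMod E (tw n k d)) (q' + 1)) :=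
        free_vanish N (by rw [hd]; push_cast; omega) (by omega)
      have h3 : Subsingleton (Coh.HH (CohB1.ProjSpace n k) (CohB1.tensorMod F (tw n k d)) q') :=
        ProjKoszul.Chase.subsingleton_of_iso k
          ((assoc G (tw n k m) (tw n k d) ≪≫
            tensorIso (Iso.refl G) (ProjCoh.Coherent.twTensor m d)).symm)
          (ProjKoszul.Regularity.subsingleton_of_le hreg hq' (by rw [hd]; push_cast; omega))
      refine subsingleton_of_forall_eq 0 fun x => ?_
      obtain ⟨y, hy⟩ := (Curves.LES.exactK₁ k hS' q' (q' + 1) rfl x).1 (@Subsingleton.elim _ h2' _ _)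
      rw [← hy, show y = 0 from @Subsingleton.elim _ h3 _ _, map_zero]
      rfl
  have hgg' := ProjKoszul.Regularity.isGloballyGenerated_of_le hK hKreg le_rfl
  let f : T'.obj (kernel p) ⟶ B := T'.map (kernel.ι p)
  haveI : Mono f := inferInstanceAs (Mono (T'.map (kernel.ι p)))
  have hKB : Coh.IsCoh (T'.obj (kernel p)) := CurveBundle.Twist.isCoh (isInvertible_tw 1) hK
  have hN' : Curves.Euler.hdim k (CohB1.ProjSpace n k) (T'.obj (kernel p)) 0 ≤ N' :=
    have := Snapper.Finite.cohFinite k (CohB1.ProjSpace n k) _ hBc 0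
    Curves.Euler.hdim_zero_le_of_mono (k := k) f
  obtain ⟨q, hq⟩ := DecShLib.Family.exists_free_epi k hKB hgg' hN'
  refine ⟨q ≫ f, ⟨?_⟩⟩
  let e1 : cokernel (kernel.ι p) ≅ F := (cokernelIsCokernel (kernel.ι p)).coconePointUniqueUpToIso
    (Abelian.epiIsCokernelOfKernel (KernelFork.ofι (kernel.ι p) (kernel.condition p))
      (kernelIsKernel p))
  let e2 : cokernel (q ≫ f) ≅ T'.obj F :=
    cokernelEpiComp q f ≪≫ (PreservesCokernel.iso T' (kernel.ι p)).symm ≪≫ T'.mapIso e1
  let e3 : T'.obj F ≅ CohB1.tensorMod G Ci := assoc G (tw n k m) (tw n k 1)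
  exact tensorIso (e2 ≪≫ e3) (Iso.refl _) ≪≫ assoc G Ci (TensorMod.Dual.dual Ci) ≪≫
    tensorIso (Iso.refl G) (TensorMod.Invertible.tensorDualIso hCi) ≪≫ rightUnit G

/-- Over a finite field these sheaves form finitely many classes. -/
theorem finite_reg [Finite k] (m : ℤ) (N : ℕ) :
    ∃ (ι : Type u) (_ : Finite ι) (F : ι → (CohB1.ProjSpace n k).Modules),
      ∀ G : (CohB1.ProjSpace n k).Modules, Coh.IsCoh G ∧ ProjKoszul.Regularity.Reg G m ∧
        Curves.Euler.hdim k (CohB1.ProjSpace n k) (CohB1.tensorMod G (tw n k m)) 0 ≤ N →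
        ∃ i, Nonempty (F i ≅ G) := by
  haveI : IsProper (CohB1.ProjSpace n k ↘ Spec (CommRingCat.of k)) :=
    ProjSpace.Basic.isProper_toSpec n k
  obtain ⟨N', B, C, hB, h⟩ := exists_presentation (n := n) (k := k) m N
  obtain ⟨M, φ, hφ⟩ := Presented.exists_hom_span k N' hB
  refine ⟨Fin M → k, inferInstance, fun c => CohB1.tensorMod
    (cokernel (∑ i, Formal.smulMod k (FlatMod.freeMod (CohB1.ProjSpace n k) N') (c i) ≫ φ i)) C,
    fun G hG => ?_⟩
  obtain ⟨ψ, e⟩ := h G hG
  obtain ⟨c, rfl⟩ := hφ ψ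
  exact ⟨c, e⟩

end Proj

variable (k : Type u) [Field k] [Finite k] {X : Scheme.{u}} [X.Over (Spec (CommRingCat.of k))]
  [IsProper (X ↘ Spec (CommRingCat.of k))]

/-- Numerically trivial modules on a projective scheme over a finite field are torsion. -/
theorem exists_pow_trivial {H : X.Modules} (hH : CohB1.IsAmple H) {L : X.Modules}
    (hL : Nakai.UnifAbs.NTA k L) :
    ∃ d : ℕ, 0 < d ∧ Nonempty (CohB1.tensorPow L d ≅ Coh.structureModule X) := by
  haveI := Curves.GlobalSections.isNoetherian_of_proper k X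
  obtain ⟨N, r, j, hN, hj, hjs, hpow⟩ := DepthTwist.Embed.exists_embedding (k := k) hH
  haveI := hj
  haveI := ProperFin.Projective.isNoetherian_projSpace (R := k) (n := r)
  have hO := Ample.GG.isCoh_of_isInvertible (PicLoc.isInvertible_structureModule X)
  obtain ⟨m₀, hv⟩ := Nakai.UnifAbs.exists_vanishing k hH hO
  obtain ⟨m₁, hh⟩ := Nakai.UnifAbs.exists_h0_eq k hH hO
  set m := m₀ + m₁ + (r + 1) with hm
  have hNTA : ∀ a : ℕ, Nakai.UnifAbs.NTA k (CohB1.tensorPow L a) := fun a =>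
    ⟨isInvertible_tensorPow hL.1 a, fun d hd => Nakai.NTBound.nt_pow hd (hL.2 d hd) a⟩
  have key : ∀ l : ℕ, Nonempty (CohB1.tensorMod (CohB1.tensorPow H (N * l)) (Coh.structureModule X) ≅
      Nakai.UnifVan.twX j (l : ℤ)) := fun l => by
    obtain ⟨e⟩ := DepthTwist.Embed.nonempty_pow_iso j hpow l
    exact ⟨rightUnit _ ≪≫ (Ample.Pow.powMul H N l).symm ≪≫ e⟩
  have hNm : ∀ l : ℕ, l ≤ N * l := fun l => Nat.le_mul_of_pos_left l hN
  obtain ⟨e₀⟩ := key m
  obtain ⟨ι, hι, F, hF⟩ := finite_reg (n := r) (k := k) (m : ℤ)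
    (Module.finrank k (Coh.HH X (CohB1.tensorMod (CohB1.tensorPow H (N * m)) (Coh.structureModule X)) 0))
  have hmem : ∀ a : ℕ, ∃ i, Nonempty (F i ≅ (Coh.push j).obj (CohB1.tensorPow L a)) := by
    intro a
    have hLc := Ample.GG.isCoh_of_isInvertible (hNTA a).1
    refine hF _ ⟨Cyc.Dev.SchemeEquiv.isCoh_push j hLc, fun q hq => ?_, ?_⟩
    · by_cases hbig : r < q
      · have := (isCoh_tensorMod (Cyc.Dev.SchemeEquiv.isCoh_push j hLc)
          (isCoh_tw (n := r) (R := k) ((m : ℤ) - q))).1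
        exact ProjCoh.Twist.subsingleton_HH_of_lt _ hbig
      · obtain ⟨E⟩ := Nakai.UnifVan.nonempty_hh j hjs hLc ((m : ℤ) - q) q
        obtain ⟨l, hl⟩ : ∃ l : ℕ, (l : ℤ) = (m : ℤ) - q := ⟨m - q, by omega⟩
        obtain ⟨e⟩ := key l
        rw [← hl] at E ⊢
        have h := (hv _ (hNTA a)).1 (N * l) ((show m₀ ≤ l by omega).trans (hNm l)) q hq
        exact (E.toEquiv.trans (Curves.LES.isoK k
          (TensorMod.Basic.tensorIso (Iso.refl _) e.symm) q).toEquiv).injective.subsingleton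
    · obtain ⟨E⟩ := Nakai.UnifVan.nonempty_hh j hjs hLc (m : ℤ) 0
      change Curves.Euler.hdim k _ (CohB1.tensorMod _ (tw r k (m : ℤ))) 0 ≤ _
      rw [Curves.Euler.hdim, E.finrank_eq, ← hh (N * m) ((show m₁ ≤ m by omega).trans (hNm m)) _ (hNTA a),
        (Curves.LES.isoK k (TensorMod.Basic.tensorIso (Iso.refl (CohB1.tensorPow L a)) e₀.symm) 0).finrank_eq]
  choose idx hidx using hmem
  haveI := hι
  obtain ⟨a, b, hne, hab⟩ := Finite.exists_ne_map_eq_of_infinite idx
  wlog hlt : a < b generalizing a b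
  · exact this b a hne.symm hab.symm (by omega)
  obtain ⟨ea⟩ := hidx a
  obtain ⟨eb⟩ := hidx b
  haveI := Cyc.Dev.SchemeCase.isIso_counit j (CohB1.tensorPow L a)
  haveI := Cyc.Dev.SchemeCase.isIso_counit j (CohB1.tensorPow L b)
  let e : CohB1.tensorPow L b ≅ CohB1.tensorPow L a :=
    (asIso ((Scheme.Modules.pullbackPushforwardAdjunction j).counit.app _)).symm ≪≫
      (Scheme.Modules.pullback j).mapIso (eb.symm ≪≫ eqToIso (congrArg F hab.symm) ≪≫ ea) ≪≫
      asIso ((Scheme.Modules.pullbackPushforwardAdjunction j).counit.app _)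
  have hA := isInvertible_tensorPow hL.1 a
  exact ⟨b - a, by omega, ⟨(rightUnit _).symm ≪≫
    TensorMod.Basic.tensorIso (Iso.refl _) (TensorMod.Invertible.tensorDualIso hA).symm ≪≫
    (assoc _ _ _).symm ≪≫ TensorMod.Basic.tensorIso ((Ample.Pow.powAdd L (b - a) a).symm ≪≫
      Ample.Pow.powCongr L (show b - a + a = b by omega) ≪≫ e) (Iso.refl _) ≪≫
    TensorMod.Invertible.tensorDualIso hA⟩⟩

end Groth.Agent.Lib.PicBdd.FiniteField
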