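import Groth.Agent.Lib.PicBdd.Strata
import Groth.Agent.Lib.GenFree.Sheaf

/-!
# Bounded families: the fibres come from finitely many flat families over integral bases
-/

set_option autoImplicit false
set_option linter.style.haveILetI false
universe u

open CategoryTheory CategoryTheory.Limits AlgebraicGeometry TopologicalSpace

namespace Groth.Agent.Lib.PicBdd.FlatPieces

open Groth.Agent Groth.Agent.Lib
open Groth.Agent.Lib.PicBdd.Strata (nonempty_fibre_map sliceAt_fst sliceAt_snd isPullback_sliceAt)

variable (k : Type u) [Field k] (X : Scheme.{u}) [X.Over (Spec (CommRingCat.of k))]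

/-- An integral parameter scheme with a flat coherent module. -/
structure Piece where
  T : Scheme.{u}
  q : T ⟶ Spec (CommRingCat.of k)
  integral : IsIntegral T
  lft : LocallyOfFiniteType q
  qc : QuasiCompact q
  M : (Pic13.prodK k X q).Modules
  coh : Coh.IsCoh M
  flat : FlatMod.IsFlatOver (pullback.snd (X ↘ Spec (CommRingCat.of k)) q) M

/-- `L` is the fibre of a piece at a rational point. -/
def Covers (ps : List (Piece k X)) (L : X.Modules) : Prop :=
  ∃ p ∈ ps, ∃ (t : Spec (CommRingCat.of k) ⟶ p.T) (ht : t ≫ p.q = 𝟙 _),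
    Nonempty (Pic13.fibreMod k X p.q t ht p.M ≅ L)

variable {k X}

theorem Covers.mono {ps ps' : List (Piece k X)} (h : ps ⊆ ps') {L : X.Modules}
    (hL : Covers k X ps L) : Covers k X ps' L :=
  hL.imp fun _ hp => ⟨h hp.1, hp.2⟩

theorem Covers.of_iso {ps : List (Piece k X)} {L L' : X.Modules} (e : L ≅ L')
    (hL : Covers k X ps L) : Covers k X ps L' := by
  obtain ⟨p, hp, t, ht, ⟨e'⟩⟩ := hL
  exact ⟨p, hp, t, ht, ⟨e' ≪≫ e⟩⟩

variable [IsAlgClosed k] [IsProper (X ↘ Spec (CommRingCat.of k))]

/-- One stratum. -/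
theorem exists_stratum {T : Scheme.{u}} (q : T ⟶ Spec (CommRingCat.of k)) [LocallyOfFiniteType q]
    [QuasiCompact q] (F : (Pic13.prodK k X q).Modules) (hF : Coh.IsCoh F) (η : T) :
    ∃ (O : T.Opens) (ps : List (Piece k X)), η ∈ O ∧
      ∀ (t : Spec (CommRingCat.of k) ⟶ T) (ht : t ≫ q = 𝟙 _),
        t (IsLocalRing.closedPoint k) ∈ O →
          t (IsLocalRing.closedPoint k) ∈ closure ({η} : Set T) →
            Covers k X ps (Pic13.fibreMod k X q t ht F) := by
  classical
  haveI : IsNoetherian T := by
    haveI : IsLocallyNoetherian T := LocallyOfFiniteType.isLocallyNoetherian q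
    haveI : CompactSpace T := QuasiCompact.compactSpace_of_compactSpace q
    exact ⟨⟩
  let J := Scheme.IdealSheafData.vanishingIdeal (⟨closure {η}, isClosed_closure⟩ : Closeds T)
  let i := J.subschemeι
  have hr : Set.range i = closure {η} := by
    rw [Scheme.IdealSheafData.range_subschemeι, Scheme.IdealSheafData.coe_support_vanishingIdeal]
    rfl
  haveI : IsReduced J.subscheme := H75.RedSub.isReduced_vanishingIdeal _
  obtain ⟨η₀, hη₀⟩ := hr.symm.subset (subset_closure (Set.mem_singleton η))
  have hgen : IsGenericPoint η₀ (Set.univ : Set J.subscheme) := by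
    show closure {η₀} = Set.univ
    rw [i.isClosedEmbedding.isInducing.closure_eq_preimage_closure_image, Set.image_singleton,
      show i η₀ = η from hη₀, ← hr, Set.preimage_range]
  haveI : IrreducibleSpace J.subscheme := (irreducibleSpace_def _).2 hgen.isIrreducible
  haveI : IsIntegral J.subscheme := isIntegral_of_irreducibleSpace_of_isReduced _
  haveI : IsLocallyNoetherian J.subscheme := LocallyOfFiniteType.isLocallyNoetherian i
  let qJ := i ≫ q
  haveI : LocallyOfFiniteType qJ := inferInstanceAs (LocallyOfFiniteType (i ≫ q))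
  let pX := X ↘ Spec (CommRingCat.of k)
  let g : Pic13.prodK k X qJ ⟶ Pic13.prodK k X q :=
    pullback.lift (pullback.fst pX qJ) (pullback.snd pX qJ ≫ i)
      (by rw [Category.assoc]; exact pullback.condition)
  let u := pullback.snd pX qJ
  haveI : LocallyOfFiniteType u := inferInstanceAs (LocallyOfFiniteType (pullback.snd pX qJ))
  haveI : IsLocallyNoetherian (Pic13.prodK k X qJ) := LocallyOfFiniteType.isLocallyNoetherian u
  have hFJ : Coh.IsCoh ((Scheme.Modules.pullback g).obj F) := Cyc.FP.Stalk.isCoh_pullback g hF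
  have hFfp := ZarCoh.FP.isFP_of_isCoh _ hFJ
  haveI : SheafOfModules.IsFinitePresentation (R := (Pic13.prodK k X qJ).ringCatSheaf)
    ((Scheme.Modules.pullback g).obj F) := hFfp
  haveI : ((Scheme.Modules.pullback g).obj F).IsQuasicoherent := hFJ.1
  haveI : QuasiCompact u := inferInstanceAs (QuasiCompact (pullback.snd pX qJ))
  haveI : SheafOfModules.IsFiniteType (R := (Pic13.prodK k X qJ).ringCatSheaf)
      ((Scheme.Modules.pullback g).obj F) := hFJ.2
  obtain ⟨V, hV, hflat⟩ : ∃ V : J.subscheme.Opens, (V : Set J.subscheme).Nonempty ∧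
      ∀ w, u.base w ∈ V → FlatMod.IsFlatOverAt u ((Scheme.Modules.pullback g).obj F) w :=
    GenFree.generic_flatness u ((Scheme.Modules.pullback g).obj F)
  have hη₀V : η₀ ∈ V := (hgen.mem_open_set_iff V.2).2 (by simpa using hV)
  -- the family over `V`
  let qV := V.ι ≫ qJ
  haveI : LocallyOfFiniteType qV := inferInstanceAs (LocallyOfFiniteType (V.ι ≫ qJ))
  haveI : IsLocallyNoetherian (V : Scheme.{u}) := isLocallyNoetherian_of_isOpenImmersion V.ι
  let gV : Pic13.prodK k X qV ⟶ Pic13.prodK k X qJ :=
    pullback.lift (pullback.fst pX qV) (pullback.snd pX qV ≫ V.ι)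
      (by rw [Category.assoc]; exact pullback.condition)
  let uV := pullback.snd pX qV
  haveI : IsProper uV := inferInstanceAs (IsProper (pullback.snd pX qV))
  haveI : IsLocallyNoetherian (Pic13.prodK k X qV) := LocallyOfFiniteType.isLocallyNoetherian uV
  haveI : LocallyOfFinitePresentation uV := H46.FibreDimNhd.locallyOfFinitePresentation uV
  have sqV : IsPullback gV uV u V.ι := by
    refine IsPullback.of_right ?_ (pullback.lift_snd _ _ _) (IsPullback.of_hasPullback pX qJ)
    rw [pullback.lift_fst]
    exact IsPullback.of_hasPullback pX qV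
  let G := (Scheme.Modules.pullback gV).obj ((Scheme.Modules.pullback g).obj F)
  have hGc : Coh.IsCoh G := Cyc.FP.Stalk.isCoh_pullback gV hFJ
  have hGfp := ZarCoh.FP.isFP_of_isCoh _ hGc
  haveI : IsOpenImmersion gV := MorphismProperty.of_isPullback sqV.flip inferInstance
  have hGfl : FlatMod.IsFlatOver uV G := fun w => by
    have h1 : FlatMod.IsFlatOverAt (gV ≫ u) G w :=
      (Flat55.FlatOverAt.isFlatOverAt_pullback_iff gV u _ w
        (RingHom.Flat.of_bijective (ConcreteCategory.bijective_of_isIso _))).2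
        (hflat _ (by
          show u (gV w) ∈ V
          rw [show u (gV w) = V.ι (uV w) from congr($(sqV.w) w)]
          exact (uV w).2))
    have sq1 : IsPullback (𝟙 _) uV (gV ≫ u) V.ι := by
      rw [sqV.w]
      exact (IsPullback.id_horiz uV).paste_vert (IsKernelPair.id_of_mono V.ι)
    exact Flat55.FlatOverAt.of_iso uV ((Scheme.Modules.pullbackId _).app _) w
      (Flat55.FlatOverAt.isFlatOverAt_baseChange _ _ _ _ sq1 _ w h1)
  obtain ⟨OT, hOT, hOTe⟩ := i.isClosedEmbedding.isInducing.isOpen_iff.1 V.2
  haveI : Nonempty V := ⟨⟨η₀, hη₀V⟩⟩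
  refine ⟨⟨OT, hOT⟩, [{ T := (V : Scheme.{u}), q := qV
                        integral := isIntegral_of_isOpenImmersion V.ι
                        lft := inferInstance
                        qc := by
                          haveI : NoetherianSpace J.subscheme := i.isClosedEmbedding.isInducing.noetherianSpace
                          haveI : NoetherianSpace (V : Scheme.{u}) :=
                            V.ι.isOpenEmbedding.isInducing.noetherianSpace
                          exact (quasiCompact_iff_compactSpace qV).2 inferInstance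
                        M := G, coh := hGc, flat := hGfl }], ?_, fun t ht htO htη => ?_⟩
  · exact hη₀ ▸ (Set.ext_iff.1 hOTe η₀).2 hη₀V
  · -- the rational point lifts
    set x₀ := t (IsLocalRing.closedPoint k)
    obtain ⟨z, hz⟩ : x₀ ∈ Set.range i := hr.symm ▸ htη
    have hzV : z ∈ V := (Set.ext_iff.1 hOTe z).1 (show i z ∈ OT from hz.symm ▸ htO)
    have hclosed : IsClosed ({x₀} : Set T) :=
      ((pointEquivClosedPoint q) ⟨t, ht⟩).2
    have hzcl : IsClosed ({(⟨z, hzV⟩ : V)} : Set (V : Scheme.{u})) := by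
      have h : ({(⟨z, hzV⟩ : V)} : Set (V : Scheme.{u})) = (V.ι ≫ i) ⁻¹' {x₀} := by
        ext w
        exact ⟨fun h => by rw [Set.mem_singleton_iff.1 h]; exact hz,
          fun h => Subtype.ext (i.isClosedEmbedding.injective (h.trans hz.symm))⟩
      rw [h]
      exact hclosed.preimage (V.ι ≫ i).continuous
    let tV := pointOfClosedPoint qV _ hzcl
    have htV : tV ≫ qV = 𝟙 _ := pointOfClosedPoint_comp qV _ hzcl
    have htt : tV ≫ V.ι ≫ i = t := by
      refine ext_of_apply_closedPoint_eq q ?_ ht ?_
      · simpa [qV, qJ, Category.assoc] using htV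
      · show i (V.ι (tV (IsLocalRing.closedPoint k))) = x₀
        have h := pointOfClosedPoint_apply qV _ hzcl (IsLocalRing.closedPoint k)
        exact (congrArg (fun w => i (V.ι w)) h).trans hz
    have e1 : Nonempty (Pic13.fibreMod k X qV tV htV G ≅ Pic13.fibreMod k X q t ht F) := by
      obtain ⟨a⟩ := nonempty_fibre_map qJ V.ι gV (pullback.lift_fst _ _ _) (pullback.lift_snd _ _ _)
        ((Scheme.Modules.pullback g).obj F) tV htV (tV ≫ V.ι) ((Category.assoc _ _ _).trans htV) rfl
      obtain ⟨b⟩ := nonempty_fibre_map q i g (pullback.lift_fst _ _ _) (pullback.lift_snd _ _ _) F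
        (tV ≫ V.ι) ((Category.assoc _ _ _).trans htV) t ht ((Category.assoc _ _ _).trans htt)
      exact ⟨a ≪≫ b⟩
    obtain ⟨e1⟩ := e1
    exact ⟨_, List.mem_singleton_self _, tV, htV, ⟨e1⟩⟩

/-- The fibres of a coherent family lie in finitely many flat integral families. -/
theorem exists_pieces {T : Scheme.{u}} (q : T ⟶ Spec (CommRingCat.of k)) [LocallyOfFiniteType q]
    [QuasiCompact q] (F : (Pic13.prodK k X q).Modules) (hF : Coh.IsCoh F) :
    ∃ ps : List (Piece k X), ∀ (t : Spec (CommRingCat.of k) ⟶ T) (ht : t ≫ q = 𝟙 _),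
      Covers k X ps (Pic13.fibreMod k X q t ht F) := by
  haveI : IsNoetherian T := by
    haveI : IsLocallyNoetherian T := LocallyOfFiniteType.isLocallyNoetherian q
    haveI : CompactSpace T := QuasiCompact.compactSpace_of_compactSpace q
    exact ⟨⟩
  suffices h : ∀ Z : Closeds T, ∃ ps : List (Piece k X),
      ∀ (t : Spec (CommRingCat.of k) ⟶ T) (ht : t ≫ q = 𝟙 _), t (IsLocalRing.closedPoint k) ∈ Z →
        Covers k X ps (Pic13.fibreMod k X q t ht F) by
    obtain ⟨ps, hps⟩ := h ⊤
    exact ⟨ps, fun t ht => hps t ht trivial⟩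
  intro Z
  induction Z using WellFoundedLT.induction with
  | ind Z ih =>
    by_cases hne : (Z : Set T).Nonempty
    swap
    · exact ⟨[], fun t _ hz => absurd ⟨_, hz⟩ hne⟩
    by_cases hirr : IsPreirreducible (Z : Set T)
    · obtain ⟨η, hη⟩ := QuasiSober.sober (S := (Z : Set T)) ⟨hne, hirr⟩ Z.isClosed
      obtain ⟨O, ps, hηO, hps⟩ := exists_stratum q F hF η
      let Z' : Closeds T := ⟨(Z : Set T) ∩ (O : Set T)ᶜ, Z.isClosed.inter O.2.isClosed_compl⟩
      have hlt : Z' < Z := lt_of_le_of_ne Set.inter_subset_left fun e => by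
        have h : η ∈ Z' := by rw [e]; exact hη.mem
        exact h.2 hηO
      obtain ⟨ps', hps'⟩ := ih Z' hlt
      refine ⟨ps ++ ps', fun t ht hz => ?_⟩
      by_cases hO : t (IsLocalRing.closedPoint k) ∈ O
      · exact (hps t ht hO (hη.symm ▸ hz)).mono (List.subset_append_left _ _)
      · exact (hps' t ht ⟨hz, hO⟩).mono (List.subset_append_right _ _)
    · rw [isPreirreducible_iff_isClosed_union_isClosed] at hirr
      push Not at hirr
      obtain ⟨A, B, hA, hB, hsub, hnA, hnB⟩ := hirr
      let ZA : Closeds T := ⟨(Z : Set T) ∩ A, Z.isClosed.inter hA⟩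
      let ZB : Closeds T := ⟨(Z : Set T) ∩ B, Z.isClosed.inter hB⟩
      obtain ⟨psA, hpsA⟩ := ih ZA (lt_of_le_of_ne Set.inter_subset_left fun e =>
        hnA fun x hx => (show x ∈ ZA by rw [e]; exact hx).2)
      obtain ⟨psB, hpsB⟩ := ih ZB (lt_of_le_of_ne Set.inter_subset_left fun e =>
        hnB fun x hx => (show x ∈ ZB by rw [e]; exact hx).2)
      refine ⟨psA ++ psB, fun t ht hz => ?_⟩
      rcases hsub hz with h | h
      · exact (hpsA t ht ⟨hz, h⟩).mono (List.subset_append_left _ _)
      · exact (hpsB t ht ⟨hz, h⟩).mono (List.subset_append_right _ _)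

end Groth.Agent.Lib.PicBdd.FlatPieces
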