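import Groth.Agent.Lib.PicBdd.AlgFp
import Groth.Agent.Lib.Chow.Projective
import Groth.Agent.Lib.FinCond.Components
import Groth.Agent.Lib.Snapper.DimBound
import Groth.Agent.Lib.Nakai.NumProper
import Groth.Agent.Lib.Exchange.NearFibre
import Groth.Agent.Lib.HProj.QuasiProj
import Groth.Agent.S2422
import Groth.Agent.S5683
import Groth.Agent.S14812

/-!
# Numerically trivial modules on normal proper schemes over algebraic extensions of `F_p` are torsion
-/

set_option autoImplicit false
set_option linter.style.haveILetI false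
universe u

open CategoryTheory CategoryTheory.Limits AlgebraicGeometry Opposite TopologicalSpace

namespace Groth.Agent.Lib.PicBdd.NormalTorsion

open Groth.Agent Groth.Agent.Lib

/-- Numerical triviality pulls back along morphisms of proper schemes. -/
theorem num_pullback {k : Type u} [Field k] {X X' : Scheme.{u}}
    [X.Over (Spec (CommRingCat.of k))] [IsProper (X ↘ Spec (CommRingCat.of k))]
    [X'.Over (Spec (CommRingCat.of k))] [IsProper (X' ↘ Spec (CommRingCat.of k))] (g : X' ⟶ X)
    (hg : g ≫ (X ↘ Spec (CommRingCat.of k)) = X' ↘ Spec (CommRingCat.of k)) {L : X.Modules}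
    (hL : PicF.IsInvertible L) (h : Pic13.IsNumEquivZero k X L) :
    Pic13.IsNumEquivZero k X' ((Scheme.Modules.pullback g).obj L) := by
  haveI := Curves.GlobalSections.isNoetherian_of_proper k X
  obtain ⟨d, hd⟩ := Snapper.DimBound.exists_dim_bound k X
  exact (Groth.Agent.S14812.result k X' _ (PicLoc.isInvertible_pullback g hL)).2 fun F hF d' hd' =>
    Nakai.NumProper.chi_eq hd'
      (Nakai.NumProper.nt_pullback hd (Nakai.NTBound.nt_of_num hd hL h) g hg hd') hF

theorem stalkSpecializes_surjective {X : Scheme.{u}} {a b : X} (h : a ⤳ b) (e : a = b) :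
    Function.Surjective (X.presheaf.stalkSpecializes h).hom := by
  subst e
  rw [TopCat.Presheaf.stalkSpecializes_refl]
  exact fun x => ⟨x, rfl⟩

variable (p : ℕ) [Fact (Nat.Prime p)] {k : Type u} [Field k] [CharP k p]

/-- The integral case, by Chow's lemma. -/
theorem exists_pow_trivial_integral (halg : ∀ x : k, ∃ n : ℕ, 0 < n ∧ x ^ (p ^ n) = x)
    {X : Scheme.{u}} [X.Over (Spec (CommRingCat.of k))] [IsProper (X ↘ Spec (CommRingCat.of k))]
    [IsIntegral X] (hX : Pi1.IsNormalScheme X) {L : X.Modules} (hL : PicF.IsInvertible L)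
    (hnum : Pic13.IsNumEquivZero k X L) :
    ∃ d : ℕ, 0 < d ∧ Nonempty (CohB1.tensorPow L d ≅ Coh.structureModule X) := by
  haveI := Curves.GlobalSections.isNoetherian_of_proper k X
  obtain ⟨n, X', π, j, U, hji, hj, hπ, hsurj, hUd, hUiso, hUd', hred⟩ :=
    Chow.Main.chow (X ↘ Spec (CommRingCat.of k))
      TopologicalSpace.NoetherianSpace.finite_irreducibleComponents
  haveI := hji
  haveI := hπ
  haveI := hUiso
  haveI := Chow.Projective.irreducibleSpace_modification π U hUd' hUd
  haveI := hred (isReduced_of_isOpenImmersion U.ι)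
  haveI : IsIntegral X' := isIntegral_of_irreducibleSpace_of_isReduced X'
  letI : X'.Over (Spec (CommRingCat.of k)) := ⟨π ≫ (X ↘ Spec (CommRingCat.of k))⟩
  haveI : IsProper (X' ↘ Spec (CommRingCat.of k)) :=
    inferInstanceAs (IsProper (π ≫ (X ↘ Spec (CommRingCat.of k))))
  let j' : X' ⟶ CohB1.ProjSpace n k := j ≫ (ProjSpace.BaseChange.overSpecIso n k).hom
  have hj' : j' ≫ CohB1.ProjSpace.toSpec n k = X' ↘ Spec (CommRingCat.of k) := by
    rw [Category.assoc, ProjSpace.BaseChange.overSpecIso_hom_toSpec, hj]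
    rfl
  haveI : IsClosedImmersion j' := by
    refine (IsClosedImmersion.iff_isProper_and_mono j').mpr ⟨?_, inferInstance⟩
    haveI : IsProper (j' ≫ CohB1.ProjSpace.toSpec n k) := by
      rw [hj']; infer_instance
    exact IsProper.of_comp j' (CohB1.ProjSpace.toSpec n k)
  have hH := Ample.Pullback.isAmple_pullback j' (Ample.Pullback.isQuasiAffine_of_isAffineHom _)
    (HProj.QuasiProj.isAmple_twist_projSpace n k)
  obtain ⟨d, hd, ⟨t⟩⟩ := AlgFp.exists_pow_trivial p k halg hH (PicLoc.isInvertible_pullback π hL)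
    (num_pullback π rfl hL hnum)
  have hη : π (genericPoint X') = genericPoint X := by
    obtain ⟨w, hw⟩ := hsurj.surj (genericPoint X)
    have h1 : π (genericPoint X') ⤳ genericPoint X :=
      hw ▸ ((genericPoint_spec X').specializes trivial).map π.continuous
    exact (h1.antisymm ((genericPoint_spec X).specializes trivial)).eq
  have hmem : genericPoint X' ∈ π ⁻¹ᵁ U := by
    show π (genericPoint X') ∈ U
    rw [hη]
    obtain ⟨w, hw⟩ := hUd.nonempty
    exact ((genericPoint_spec X).mem_open_set_iff U.2).mpr ⟨w, trivial, hw⟩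
  haveI : IsIso (π.stalkMap (genericPoint X')) :=
    ((MorphismProperty.isomorphisms CommRingCat).arrow_mk_iso_iff
      (morphismRestrictStalkMap π U ⟨genericPoint X', hmem⟩)).1
      (by
        have key : ∀ z : (π ⁻¹ᵁ U : Scheme.{u}), IsIso ((π ∣_ U).stalkMap z) := fun z => inferInstance
        exact key _)
  haveI : IsLocallyNoetherian X' :=
    LocallyOfFiniteType.isLocallyNoetherian (X' ↘ Spec (CommRingCat.of k))
  have happ : ∀ V : X.Opens, IsIso (π.app V) :=
    Groth.Agent.S2422.result hX π (hη ▸ specializes_rfl) fun x _ => by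
      obtain ⟨y, hy⟩ := (ConcreteCategory.bijective_of_isIso
        (π.stalkMap (genericPoint X'))).2 x
      obtain ⟨z, hz⟩ := stalkSpecializes_surjective (X := X)
        (show π (genericPoint X') ⤳ genericPoint X from hη ▸ specializes_rfl) hη y
      exact ⟨z, (congrArg (π.stalkMap (genericPoint X')) hz).trans hy⟩
  refine ⟨d, hd, Groth.Agent.S5683.result π (fun V => ?_) _
    (TensorMod.Invertible.isInvertible_tensorPow hL d) ⟨Ample.Pow.pullbackPow π L d ≪≫ t⟩⟩
  haveI := happ V
  exact ConcreteCategory.bijective_of_isIso (π.app V)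

/-- Normal proper schemes. -/
theorem exists_pow_trivial (halg : ∀ x : k, ∃ n : ℕ, 0 < n ∧ x ^ (p ^ n) = x)
    {X : Scheme.{u}} [X.Over (Spec (CommRingCat.of k))] [IsProper (X ↘ Spec (CommRingCat.of k))]
    (hX : Pi1.IsNormalScheme X) {L : X.Modules} (hL : PicF.IsInvertible L)
    (hnum : Pic13.IsNumEquivZero k X L) :
    ∃ d : ℕ, 0 < d ∧ Nonempty (CohB1.tensorPow L d ≅ Coh.structureModule X) := by
  classical
  haveI := Curves.GlobalSections.isNoetherian_of_proper k X
  haveI : ∀ x : X, IsDomain (X.presheaf.stalk x) := fun x => (hX x).1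
  haveI : AlgebraicGeometry.IsReduced X := by
    haveI : ∀ x : X, _root_.IsReduced (X.presheaf.stalk x) := fun x => inferInstance
    exact isReduced_of_isReduced_stalk X
  have hdisj : (irreducibleComponents (X : Type u)).PairwiseDisjoint id :=
    (FinCond.pairwiseDisjoint_iff_nilradical_isPrime X).2 fun x => by
      rw [nilradical_eq_zero]; exact Ideal.isPrime_bot
  have hop := FinCond.isOpen_of_pairwiseDisjoint
    (FinCond.locally_noetherian X) hdisj
  haveI : Finite (irreducibleComponents (X : Type u)) :=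
    TopologicalSpace.NoetherianSpace.finite_irreducibleComponents.to_subtype
  haveI := Fintype.ofFinite (irreducibleComponents (X : Type u))
  let W : irreducibleComponents (X : Type u) → X.Opens := fun Z => ⟨Z.1, hop Z.1 Z.2⟩
  have hcomp : ∀ Z, ∃ d : ℕ, 0 < d ∧ ∃ e : Γ(CohB1.tensorPow L d, W Z),
      TensorMod.Gen.IsGen (CohB1.tensorPow L d) (W Z) e := fun Z => by
    let V : Scheme.{u} := (W Z : Scheme.{u})
    haveI : IsClosedImmersion (W Z).ι := IsClosedImmersion.of_isPreimmersion _ (by
      rw [← Scheme.Hom.coe_opensRange, Scheme.Opens.opensRange_ι]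
      exact isClosed_of_mem_irreducibleComponents _ Z.2)
    haveI : IrreducibleSpace V := Subtype.irreducibleSpace (s := (W Z : Set X)) Z.2.1
    haveI : AlgebraicGeometry.IsReduced V := isReduced_of_isOpenImmersion (W Z).ι
    haveI : IsIntegral V := isIntegral_of_irreducibleSpace_of_isReduced V
    letI : V.Over (Spec (CommRingCat.of k)) := ⟨(W Z).ι ≫ (X ↘ Spec (CommRingCat.of k))⟩
    haveI : IsProper (V ↘ Spec (CommRingCat.of k)) :=
      inferInstanceAs (IsProper ((W Z).ι ≫ (X ↘ Spec (CommRingCat.of k))))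
    have hV : Pi1.IsNormalScheme V := fun x => by
      let e := (asIso ((W Z).ι.stalkMap x)).commRingCatIsoToRingEquiv
      haveI := (hX ((W Z).ι x)).1
      haveI := (hX ((W Z).ι x)).2
      exact ⟨e.symm.toMulEquiv.isDomain, IsIntegrallyClosed.of_equiv e⟩
    obtain ⟨d, hd, ⟨t⟩⟩ := exists_pow_trivial_integral p halg hV
      (PicLoc.isInvertible_pullback (W Z).ι hL) (num_pullback (W Z).ι rfl hL hnum)
    exact ⟨d, hd, TensorMod.Gen.exists_gen_of_iso
      ((Scheme.Modules.restrictFunctorIsoPullback (W Z).ι).app _ ≪≫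
        Ample.Pow.pullbackPow (W Z).ι L d ≪≫ t)⟩
  choose d hd hgen using hcomp
  let D := ∏ Z, d Z
  have hgenD : ∀ Z, ∃ e : Γ(CohB1.tensorPow L D, W Z),
      TensorMod.Gen.IsGen (CohB1.tensorPow L D) (W Z) e := fun Z => by
    obtain ⟨c, hc⟩ := Finset.dvd_prod_of_mem d (Finset.mem_univ Z)
    obtain ⟨e, he⟩ := hgen Z
    obtain ⟨t⟩ := TensorMod.Gen.exists_iso_of_gen he
    exact TensorMod.Gen.exists_gen_of_iso
      ((Scheme.Modules.restrictFunctor (W Z).ι).mapIso
          (Ample.Pow.powCongr L hc ≪≫ (Ample.Pow.powMul L (d Z) c).symm) ≪≫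
        Ample.Pow.restrictPow (W Z).ι _ c ≪≫ Ample.Pow.powIso t c ≪≫ Ample.Pow.powUnit _ c)
  choose e he using hgenD
  refine ⟨D, Finset.prod_pos fun Z _ => hd Z, ?_⟩
  obtain ⟨φ, -⟩ := TensorMod.HomGlue.exists_iso_of_gen (U := W) (by
      refine top_le_iff.1 fun x _ => Opens.mem_iSup.2
        ⟨⟨irreducibleComponent x, irreducibleComponent_mem_irreducibleComponents x⟩,
          mem_irreducibleComponent⟩)
    e he (fun Z => TensorMod.Gen.one X (W Z)) (fun Z => Ample.GenLocus.isGen_one _)
    fun i j V hi hj c hc => by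
      by_cases h : i = j
      · subst h
        have := (he i V hi).1 (show (1 : Γ(X, V)) • _ = c • _ from (one_smul _ _).trans hc)
        rw [← this, one_smul]
      · have hbot : V = ⊥ := eq_bot_iff.2 fun x hx => by
          exact (Set.disjoint_left.1 (hdisj i.2 j.2 fun e => h (Subtype.ext e)) (hi hx) (hj hx)).elim
        subst hbot
        haveI : Subsingleton Γ(X, (⊥ : X.Opens)) := inferInstance
        exact @Subsingleton.elim _ ⟨fun a b => (mul_one a).symm.trans
          ((Subsingleton.elim (α := Γ(X, (⊥ : X.Opens))) _ _).trans (mul_one b))⟩ _ _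
  exact ⟨φ⟩

end Groth.Agent.Lib.PicBdd.NormalTorsion
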